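import Groth.Prelude.Def_BunMod
import Groth.Prelude.Def_Jac
import Groth.Prelude.Def_Pic13
import Groth.Prelude.Def_CohB1
import Groth.Prelude.Def_Curv2
import Groth.Prelude.Def_FlatMod2
import Groth.Prelude.Def_RefHull
import Groth.Prelude.Def_ShStab
import Groth.Prelude.Def_Pic
import Mathlib.AlgebraicGeometry.Geometrically.Connected
import Mathlib.AlgebraicGeometry.Geometrically.Integral
import Mathlib.AlgebraicGeometry.Morphisms.Proper
import Mathlib.AlgebraicGeometry.Morphisms.Smooth
import Mathlib.CategoryTheory.Monoidal.Cartesian.Grp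
import Mathlib.CategoryTheory.Monoidal.Cartesian.Over
import Mathlib.CategoryTheory.Sites.Sheafification
import Mathlib.FieldTheory.IsAlgClosed.Basic
import Mathlib.Topology.KrullDimension

/-!
# Interface between the moduli part (A-E) and the Jacobian part (F) of the BunMod project

* `PPAV g J L`      : `(J, L)` is a principally polarised abelian variety of dimension `g` over `k`.
* `VerD J L r m v E`: `E` is finite locally free on `J`, `0 < v`, and `[r]^* E ≅ (L^(r m))^(+v)`.
* `Str r dm Θ L`    : the structure theorem (STR): a cartesian square over `[r] : J ⟶ J` trivialising `dm : M ⟶ J`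
  with `q^* Θ ≅ A ⊠ L^r`.
* `IT0 J E`         : `H^i(J, E ⊗ α) = 0` for all `i > 0` and all `α` algebraically equivalent to zero.
* `Criterion J`     : the hypothesis `hB1` of the rows (Pareschi's criterion, index 0 plus ample implies globally generated).
-/

set_option autoImplicit false
universe u
open CategoryTheory CategoryTheory.Limits AlgebraicGeometry MonoidalCategory CartesianMonoidalCategory MonObj

namespace Groth.Agent.BunMod.K596

noncomputable section

variable {k : Type u} [Field k]

/-- `(J, L)` is a principally polarised abelian variety of dimension `g` over `k` (all that part F uses). -/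
structure PPAV (g : ℕ) (J : Over (Spec (CommRingCat.of k))) [GrpObj J] (L : J.left.Modules) : Prop where
  comm : IsCommMonObj J
  proper : IsProper J.hom
  smooth : Smooth J.hom
  gconn : GeometricallyConnected J.hom
  gint : GeometricallyIntegral J.hom
  dim : topologicalKrullDim J.left = g
  inv : PicF.IsInvertible L
  ample : CohB1.IsAmple L
  h0 : ∀ m : ℕ, 1 ≤ m →
    @Module.finrank k (Coh.HH J.left (CohB1.tensorPow L m) 0) _ _
      (@Coh.moduleOver k _ J.left ⟨J.hom⟩ (CohB1.tensorPow L m) 0) = m ^ g

/-- `L` is symmetric: its pull back along the inversion is isomorphic to `L`. -/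
def Sym (J : Over (Spec (CommRingCat.of k))) [GrpObj J] (L : J.left.Modules) : Prop :=
  Nonempty ((Scheme.Modules.pullback (GrpObj.inv : J ⟶ J).left).obj L ≅ L)

/-- `E` is finite locally free on `J`, `0 < v`, and `[r]^* E ≅ (L^(r m))^(+v)`. -/
structure VerD (J : Over (Spec (CommRingCat.of k))) [GrpObj J] (L : J.left.Modules) (r m v : ℕ)
    (E : J.left.Modules) : Prop where
  locFree : FlatMod.IsFinLocFree E
  pos : 0 < v
  iso : Nonempty ((Scheme.Modules.pullback ((𝟙 J) ^ r : J ⟶ J).left).obj E ≅
    ∐ fun _ : Fin v => CohB1.tensorPow L (r * m))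

/-- The structure theorem for `dm : M ⟶ J`, `Θ` on `M`, `L` on `J`: `M ×_{J,[r]} J ≅ M₀ × J` and the pull back of `Θ`
is `A ⊠ L^r`, with `M₀` proper, geometrically integral and `A` an effective line bundle. -/
structure Str (r : ℕ) {M J : Over (Spec (CommRingCat.of k))} [GrpObj J] (dm : M ⟶ J)
    (Θ : M.left.Modules) (L : J.left.Modules) where
  M₀ : Over (Spec (CommRingCat.of k))
  A : M₀.left.Modules
  q : M₀ ⊗ J ⟶ M
  inv : PicF.IsInvertible A
  proper : IsProper M₀.hom
  gint : GeometricallyIntegral M₀.hom
  sq : IsPullback q (snd M₀ J) dm ((𝟙 J) ^ r : J ⟶ J)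
  iso : Nonempty ((Scheme.Modules.pullback q.left).obj Θ ≅
    CohB1.tensorMod ((Scheme.Modules.pullback (fst M₀ J).left).obj A)
      ((Scheme.Modules.pullback (snd M₀ J).left).obj (CohB1.tensorPow L r)))
  sec : ∃ s : Coh.structureModule M₀.left ⟶ A, s ≠ 0

/-- The index condition with index `0`: `H^i(J, E ⊗ α) = 0` for `i > 0` and `α` algebraically equivalent to zero. -/
def IT0 (J : Over (Spec (CommRingCat.of k))) (E : J.left.Modules) : Prop :=
  ∀ α : J.left.Modules, PicF.IsInvertible α → @Pic13.IsAlgEquivZero k _ J.left ⟨J.hom⟩ α →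
    ∀ i : ℕ, 0 < i → Subsingleton (Coh.HH J.left (CohB1.tensorMod E α) i)

/-- The hypothesis `hB1` of the rows: index `0` and ample imply globally generated. -/
def Criterion (J : Over (Spec (CommRingCat.of k))) : Prop :=
  ∀ (E : J.left.Modules), FlatMod.IsFinLocFree E →
    (∀ (α : J.left.Modules), PicF.IsInvertible α → @Pic13.IsAlgEquivZero k _ J.left ⟨J.hom⟩ α →
      ∀ i : ℕ, 0 < i → Subsingleton (Coh.HH J.left (CohB1.tensorMod E α) i)) →
    ∀ (L : J.left.Modules), CohB1.IsAmple L → Curv2.IsGloballyGenerated (CohB1.tensorMod E L)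

/-- The multiplication map on global sections, as in the rows. -/
def MulSurj {X : Scheme.{u}} (E F : X.Modules) : Prop :=
  Function.Surjective ((toSheafify (Opens.grothendieckTopology X)
    (CohB1.tensorPre E F).presheaf).app (Opposite.op ⊤))

end

end Groth.Agent.BunMod.K596
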