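import Groth.Agent.JacVar.K532.Fine

/-!
# Coarse moduli schemes of line bundles of degree zero are Jacobians (node JB1, JB3a)

`f : C ⟶ Spec k` a smooth proper geometrically integral curve with a rational point, `(J₀, ξ₀)` the rigidified
Jacobian (`IsJac`).
-/

set_option autoImplicit false
universe u
open CategoryTheory CategoryTheory.Limits AlgebraicGeometry MonObj MonoidalCategory CartesianMonoidalCategory

namespace Groth.Agent.BunMod.K596.JacBridge

open Groth.Agent Groth.Agent.Grpsch.PicGrp Groth.Agent.Fga.RigGrp Groth.Agent.Fga.JacSum Groth.Agent.Fga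
open Groth.Agent.Sga7.H732.Hedge K532.Fine

variable {k : Type u} [Field k] {C : Scheme.{u}} {f : C ⟶ Spec (CommRingCat.of k)}
  {σ : Spec (CommRingCat.of k) ⟶ C} {hσ : σ ≫ f = 𝟙 (Spec (CommRingCat.of k))} [IsProper f]

section

variable {J₀ : Over (Spec (CommRingCat.of k))} [GrpObj J₀]
  {ξ₀ : Pic (PicF.XT f J₀)} (h₀ : IsJac f σ hσ J₀ ξ₀)

include h₀ in
theorem ext {T : Over (Spec (CommRingCat.of k))} {x y : T ⟶ J₀}
    (h : pull (PicF.XTmap f x) ξ₀ = pull (PicF.XTmap f y) ξ₀) : x = y := by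
  apply Sga7.H732.Abel.cls_injective h₀ T
  rw [Sga7.H732.Abel.cls_apply, Sga7.H732.Abel.cls_apply, h]

include h₀ in
theorem isCommMonObj : IsCommMonObj J₀ where
  mul_comm := by
    have h1 : (β_ J₀ J₀).hom ≫ μ[J₀] = snd J₀ J₀ * fst J₀ J₀ := by
      rw [Hom.mul_def]
      congr 1
    have h2 : μ[J₀] = fst J₀ J₀ * snd J₀ J₀ := by
      rw [Hom.mul_def]
      simp
    rw [h1]
    conv_rhs => rw [h2]
    apply ext h₀
    rw [h₀.mul, h₀.mul, _root_.mul_comm]

theorem cls_mul (hdim : topologicalKrullDim C = 1) {T : Over (Spec (CommRingCat.of k))}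
    {L M N : (PicF.XT f T).Modules} (hL : (ModFun.PicDeg f 0).ok T L)
    (hM : (ModFun.PicDeg f 0).ok T M) (hN : (ModFun.PicDeg f 0).ok T N)
    (e : Nonempty (N ≅ CohB1.tensorMod L M)) : cls f hdim hN = cls f hdim hL * cls f hdim hM := by
  unfold cls
  rw [mk_mul_mk]
  exact (mk_eq_iff _ _).2 e

variable (hdim : topologicalKrullDim C = 1)

theorem psi_mul {T : Over (Spec (CommRingCat.of k))}
    {L M N : (PicF.XT f T).Modules} (hT : (⊤ : ObjectProperty _) T) (hL : (ModFun.PicDeg f 0).ok T L)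
    (hM : (ModFun.PicDeg f 0).ok T M) (hN : (ModFun.PicDeg f 0).ok T N)
    (e : Nonempty (N ≅ CohB1.tensorMod L M)) :
    (psi hdim h₀).app T N hT hN = (psi hdim h₀).app T L hT hL * (psi hdim h₀).app T M hT hM := by
  apply ext h₀
  rw [h₀.mul, pull_psi, pull_psi, pull_psi, cls_mul hdim hL hM hN e, map_mul]

theorem geomBij_psi : ModFun.GeomBij (ModFun.PicDeg f 0) J₀ (psi hdim h₀) := by
  intro Ω _ _ t hP
  constructor
  · intro g
    obtain ⟨L₀, hL₀, h1⟩ := exists_family hdim (pull (PicF.XTmap f g) ξ₀) (Sga7.H732.Abel.deg_pull _ _ h₀.deg)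
    refine ⟨L₀, hL₀, ?_⟩
    apply ext h₀
    rw [pull_psi, h1, norm_of_mem _ _ _ (pull_mem _ h₀.mem)]
  · intro L M hL hM h
    refine (r_iff f σ hσ L M ((ok_iff f hdim 0 _ L).1 hL).1 ((ok_iff f hdim 0 _ M).1 hM).1).2 ?_
    have h1 := pull_psi hdim h₀ hP hL
    have h2 := pull_psi hdim h₀ hP hM
    rw [h, h2] at h1
    exact h1.symm

theorem isCoarseModuli_psi : ModFun.IsCoarseModuli ⊤ (ModFun.PicDeg f 0) J₀ (psi hdim h₀) :=
  ⟨fun _ _ _ _ => trivial, isBestApprox hdim h₀, geomBij_psi h₀ hdim⟩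

/-- JB3a. -/
theorem isJacobian_psi : Jac.IsJacobian f ⊤ J₀ (psi hdim h₀) where
  coarse := isCoarseModuli_psi h₀ hdim
  mul _ hT _ _ _ hL hM hN e := psi_mul h₀ hdim hT hL hM hN e

/-- The isomorphism of a coarse moduli scheme with the rigidified Jacobian. -/
theorem exists_iso_of_coarse {J : Over (Spec (CommRingCat.of k))} {ψ : (ModFun.PicDeg f 0).Hom ⊤ J}
    (hJ : ModFun.IsBestApprox ⊤ (ModFun.PicDeg f 0) J ψ) :
    ∃ e : J ≅ J₀, ∀ (T : Over (Spec (CommRingCat.of k))) (L : (PicF.XT f T).Modules)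
      (hT : (⊤ : ObjectProperty _) T) (hL : (ModFun.PicDeg f 0).ok T L),
      ψ.app T L hT hL ≫ e.hom = (psi hdim h₀).app T L hT hL := by
  obtain ⟨a, ha, -⟩ := hJ J₀ (psi hdim h₀)
  obtain ⟨b, hb, -⟩ := isBestApprox hdim h₀ J ψ
  have hab : a ≫ b = 𝟙 J := by
    obtain ⟨c, hc, huc⟩ := hJ J ψ
    rw [huc (a ≫ b) fun T L hT hL => by rw [← Category.assoc, ← ha, ← hb],
      huc (𝟙 J) fun T L hT hL => by rw [Category.comp_id]]
  have hba : b ≫ a = 𝟙 J₀ := by
    obtain ⟨c, hc, huc⟩ := isBestApprox hdim h₀ J₀ (psi hdim h₀)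
    rw [huc (b ≫ a) fun T L hT hL => by rw [← Category.assoc, ← hb, ← ha],
      huc (𝟙 J₀) fun T L hT hL => by rw [Category.comp_id]]
  exact ⟨⟨a, b, hab, hba⟩, fun T L hT hL => (ha T L hT hL).symm⟩

include h₀ hdim in
/-- JB1. -/
theorem exists_isJacobian_of {J : Over (Spec (CommRingCat.of k))} {ψ : (ModFun.PicDeg f 0).Hom ⊤ J}
    (hJ : ModFun.IsCoarseModuli ⊤ (ModFun.PicDeg f 0) J ψ) :
    ∃ (_ : GrpObj J) (_ : IsCommMonObj J), Jac.IsJacobian f ⊤ J ψ := by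
  obtain ⟨e, he⟩ := exists_iso_of_coarse h₀ hdim hJ.2.1
  have := isCommMonObj h₀
  letI : GrpObj J := GrpObj.ofIso e.symm
  have hm : ∀ {T : Over (Spec (CommRingCat.of k))} (x y : T ⟶ J), (x * y) ≫ e.hom = (x ≫ e.hom) * (y ≫ e.hom) := by
    intro T x y
    rw [Hom.mul_def, Hom.mul_def]
    change lift x y ≫ ((e.symm.inv ⊗ₘ e.symm.inv) ≫ μ[J₀] ≫ e.symm.hom) ≫ e.hom = _
    simp
  have hc : IsCommMonObj J := by
    refine ⟨?_⟩
    have h1 : (β_ J J).hom ≫ μ[J] = snd J J * fst J J := by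
      rw [Hom.mul_def]
      congr 1
    have h2 : μ[J] = fst J J * snd J J := by
      rw [Hom.mul_def]
      simp
    rw [h1]
    conv_rhs => rw [h2]
    rw [← cancel_mono e.hom, hm, hm, _root_.mul_comm]
  refine ⟨inferInstance, hc, hJ, ?_⟩
  intro T hT L M N hL hM hN h
  rw [← cancel_mono e.hom, hm, he, he, he]
  exact psi_mul h₀ hdim hT hL hM hN h

end

end Groth.Agent.BunMod.K596.JacBridge
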