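import Groth.Agent.BunMod.K596.Iface
import Groth.Agent.BunMod.K596.JacBridge
import Groth.Agent.AbVar.K523.ThetaJ
import Groth.Agent.S1361

/-!
# Bridge between the rows and the interface: nodes JB1 and JB4a of `K596.PlanJ`

* `exists_isJacobian` : a coarse moduli scheme of line bundles of degree `0` is a Jacobian.
* `ppav`              : the Jacobian with its theta line bundle satisfies `PPAV`.
-/

set_option autoImplicit false
universe u
open CategoryTheory CategoryTheory.Limits AlgebraicGeometry MonoidalCategory CartesianMonoidalCategory MonObj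

namespace Groth.Agent.BunMod.K596.JB

open Groth.Agent

variable (k : Type u) [Field k] [IsAlgClosed k]
  (X : Scheme.{u}) [X.Over (Spec (CommRingCat.of k))]
  [IsProper (X ↘ Spec (CommRingCat.of k))] [Smooth (X ↘ Spec (CommRingCat.of k))]
  [GeometricallyConnected (X ↘ Spec (CommRingCat.of k))] (hdim : topologicalKrullDim ↥X = 1)

include hdim

/-- JB1.  A coarse moduli scheme for line bundles of degree `0` is a Jacobian (transport of the group law). -/
theorem exists_isJacobian (J : Over (Spec (CommRingCat.of k)))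
    (ψ : (ModFun.PicDeg (X ↘ Spec (CommRingCat.of k)) 0).Hom ⊤ J)
    (hJ : ModFun.IsCoarseModuli ⊤ (ModFun.PicDeg (X ↘ Spec (CommRingCat.of k)) 0) J ψ) :
    ∃ (_ : GrpObj J) (_ : IsCommMonObj J), Jac.IsJacobian (X ↘ Spec (CommRingCat.of k)) ⊤ J ψ := by
  have hX' := K532.Base.isSmoothProperCurve (X ↘ Spec (CommRingCat.of k)) hdim
  have hX := K532.CurvePic.isCurve_of_isAlgClosed k X hX'
  have hgi : GeometricallyIntegral (X ↘ Spec (CommRingCat.of k)) := K532.Base.geometricallyIntegral _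
  have hint := hX.integral
  obtain ⟨x, -⟩ := K532.CurvePts.exists_kpt hX (⊤ : X.Opens) ⟨genericPoint X, trivial⟩
  obtain ⟨J₀, _, ξ₀, hp, hg, h₀⟩ := Sga7.H780.JK.jk k X (X ↘ Spec (CommRingCat.of k)) hX' hgi x.1 x.2
  exact JacBridge.exists_isJacobian_of h₀ hdim hJ

/-- JB4a.  `(J, ΘJ)` is a principally polarised abelian variety of dimension `g`. -/
theorem ppav (g : ℕ) (hg : Curv2.genus k X = g) (hg1 : 1 ≤ g)
    (N : X.Modules) (hN : PicF.IsInvertible N) (hNdeg : Curv2.deg k X N 1 = (g : ℤ) - 1)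
    (J : Over (Spec (CommRingCat.of k))) [GrpObj J] [IsCommMonObj J]
    (ψ : (ModFun.PicDeg (X ↘ Spec (CommRingCat.of k)) 0).Hom ⊤ J)
    (hJ : Jac.IsJacobian (X ↘ Spec (CommRingCat.of k)) ⊤ J ψ)
    (ΘJ : J.left.Modules) (hΘJ : Jac.IsThetaLB (X ↘ Spec (CommRingCat.of k)) 0 ψ N ΘJ) : PPAV g J ΘJ := by
  obtain ⟨hX, hp, hgi, hs, σ, hσ, ξ, h, j, hj, hψ, hbase⟩ := K532.ThetaAmple.exists_setup hdim hJ
  have hsm : Smooth J.hom := Grpsch.AbBC.smooth_hom J
  have ha := K532.ThetaAmple.theta_ample hdim hJ g hg hg1 N hN hNdeg ΘJ hΘJ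
  have hd : topologicalKrullDim J.left = g := K523.ThetaJ.dim_eq hdim g hg h
  have hchi : K524.Chi.chi (Grpsch.PicGrp.mk ΘJ ha.1) = 1 :=
    K523.ThetaJ.chi_eq_one hdim hJ g hg hg1 N hN hNdeg ΘJ hΘJ hd ha
  exact
    { comm := inferInstance
      proper := hp
      smooth := hsm
      gconn := S1361.geometricallyConnected_of_geometricallyIrreducible J.hom
      gint := hgi
      dim := hd
      inv := hΘJ.1
      ample := ha
      h0 := fun m hm => K523.ThetaPow.finrank_pow g hd ΘJ ha hchi m hm }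

end Groth.Agent.BunMod.K596.JB
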