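import Groth.Agent.BunMod.K596.F1
import Groth.Agent.BunMod.K231.Mul
import Groth.Agent.BunMod.K231.AvPic
import Groth.Agent.Fga.HShift
import Groth.Agent.CohqB.LocBaseHH
import Groth.Agent.Sga67.LocBasisOps
import Groth.Agent.Grpsch.PicGrp
import Groth.Agent.S2329

/-!
# Global generation on `M` from the structure theorem (rows S16932, S16935)
-/

set_option autoImplicit false
universe u
open CategoryTheory CategoryTheory.Limits AlgebraicGeometry MonoidalCategory CartesianMonoidalCategory MonObj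
open Groth.Agent Groth.Agent.BunMod.K596 Groth.Agent.Grpsch.PicGrp Groth.Agent.Fdesc.LocGen K506.Transl

namespace Groth.Agent.BunMod.K596.RowGG

variable {k : Type u} [Field k] [IsAlgClosed k] [CharZero k] {g : ℕ} {J : Over (Spec (CommRingCat.of k))} [GrpObj J]
  {L : J.left.Modules} {M : Over (Spec (CommRingCat.of k))} {dm : M ⟶ J} {Θ : M.left.Modules} {r : ℕ}

/-- Index zero of `E ⊗ (P ⊗ L⁻¹)` for `E` satisfying `VerD`. -/
theorem it0_twist (hJ : PPAV g J L) {r m v : ℕ} (hr : 1 ≤ r) (hmr : r ≤ m) {E : J.left.Modules}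
    (hE : VerD J L r m v E) (P : J.left.Modules) (hP : PicF.IsInvertible P) (L' : J.left.Modules)
    (hL' : PicF.IsInvertible L') (hLL : Nonempty (CohB1.tensorMod L L' ≅ Coh.structureModule J.left))
    (hvan : IT0 J (CohB1.tensorMod (CohB1.tensorPow L (m * r - r ^ 2)) (CohB1.tensorPow P (r ^ 2)))) :
    IT0 J (CohB1.tensorMod E (CohB1.tensorMod P L')) := by
  have := hJ.proper
  have := hJ.gint
  intro α hα h0 i hi
  obtain ⟨e⟩ := hE.iso
  have hPL : PicF.IsInvertible (CohB1.tensorMod P L') := isInvertible_tensorMod hP hL'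
  have hEPL : FlatMod.IsFinLocFree (CohB1.tensorMod E (CohB1.tensorMod P L')) :=
    Sga67.LocBasis.isFinLocFree_tensorMod hE.locFree (StrVer.isFinLocFree_of_isInvertible hPL)
  refine K231.Mul.subsingleton_of_pullback hJ hr _
    (Sga67.LocBasis.isFinLocFree_tensorMod hEPL (StrVer.isFinLocFree_of_isInvertible hα)) i ?_
  -- the pull back of the twist
  obtain ⟨P₀, hP₀, hP₀0, ⟨eP⟩⟩ := K231.AvPic.pullback_eq hJ r P hP
  obtain ⟨L₀, hL₀, hL₀0, ⟨eL⟩⟩ := K231.AvPic.pullback_eq hJ r L' hL'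
  have hα' : PicF.IsInvertible ((Scheme.Modules.pullback ((𝟙 J) ^ r : J ⟶ J).left).obj α) := isInvertible_pullback _ hα
  have hα'0 := K231.AvPic.algEquivZero_pullback hJ r α hα h0
  have hβ : PicF.IsInvertible (CohB1.tensorMod (CohB1.tensorMod P₀ L₀)
      ((Scheme.Modules.pullback ((𝟙 J) ^ r : J ⟶ J).left).obj α)) :=
    isInvertible_tensorMod (isInvertible_tensorMod hP₀ hL₀) hα'
  have hβ0 : @Pic13.IsAlgEquivZero k _ J.left ⟨J.hom⟩ (CohB1.tensorMod (CohB1.tensorMod P₀ L₀)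
      ((Scheme.Modules.pullback ((𝟙 J) ^ r : J ⟶ J).left).obj α)) := by
    rw [K231.AvPic.isAlgEquivZero_iff_inv hβ, ← mk_mul_mk (isInvertible_tensorMod hP₀ hL₀) hα',
      ← mk_mul_mk hP₀ hL₀]
    exact (((K231.AvPic.isAlgEquivZero_iff_inv hP₀).1 hP₀0).mul
      ((K231.AvPic.isAlgEquivZero_iff_inv hL₀).1 hL₀0)).mul ((K231.AvPic.isAlgEquivZero_iff_inv hα').1 hα'0)
  have hQ : PicF.IsInvertible (CohB1.tensorMod (CohB1.tensorMod P L') α) := isInvertible_tensorMod hPL hα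
  have hT : PicF.IsInvertible (CohB1.tensorMod (CohB1.tensorPow L (r * m))
      ((Scheme.Modules.pullback ((𝟙 J) ^ r : J ⟶ J).left).obj (CohB1.tensorMod (CohB1.tensorMod P L') α))) :=
    isInvertible_tensorMod (isInvertible_tensorPow hJ.inv _) (isInvertible_pullback _ hQ)
  have hV : PicF.IsInvertible (CohB1.tensorMod (CohB1.tensorPow L (m * r - r ^ 2)) (CohB1.tensorPow P (r ^ 2))) :=
    isInvertible_tensorMod (isInvertible_tensorPow hJ.inv _) (isInvertible_tensorPow hP _)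
  have hkey : Nonempty (CohB1.tensorMod (CohB1.tensorPow L (r * m))
      ((Scheme.Modules.pullback ((𝟙 J) ^ r : J ⟶ J).left).obj (CohB1.tensorMod (CohB1.tensorMod P L') α)) ≅
      CohB1.tensorMod (CohB1.tensorMod (CohB1.tensorPow L (m * r - r ^ 2)) (CohB1.tensorPow P (r ^ 2)))
        (CohB1.tensorMod (CohB1.tensorMod P₀ L₀)
          ((Scheme.Modules.pullback ((𝟙 J) ^ r : J ⟶ J).left).obj α))) := by
    rw [← mk_eq_iff hT (isInvertible_tensorMod hV hβ),
      ← mk_mul_mk (isInvertible_tensorPow hJ.inv _) (isInvertible_pullback _ hQ), ← mk_mul_mk hV hβ,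
      ← mk_mul_mk (isInvertible_tensorPow hJ.inv _) (isInvertible_tensorPow hP _),
      ← mk_mul_mk (isInvertible_tensorMod hP₀ hL₀) hα', ← mk_mul_mk hP₀ hL₀,
      mk_tensorPow hJ.inv, mk_tensorPow hJ.inv, mk_tensorPow hP, ← pull_mk _ hQ, ← pull_mk _ hα,
      ← mk_mul_mk hPL hα, ← mk_mul_mk hP hL', map_mul, map_mul, pull_mk _ hP, pull_mk _ hL']
    have h1 := (mk_eq_iff (isInvertible_pullback _ hP)
      (isInvertible_tensorMod (isInvertible_tensorPow hP _) hP₀)).2 ⟨eP⟩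
    have h2 := (mk_eq_iff (isInvertible_pullback _ hL')
      (isInvertible_tensorMod (isInvertible_tensorPow hL' _) hL₀)).2 ⟨eL⟩
    rw [h1, h2, ← mk_mul_mk (isInvertible_tensorPow hP _) hP₀, ← mk_mul_mk (isInvertible_tensorPow hL' _) hL₀,
      mk_tensorPow hP, mk_tensorPow hL']
    have h3 : mk L hJ.inv * mk L' hL' = 1 := by
      rw [mk_mul_mk, one_def, mk_eq_iff]
      exact hLL
    have h4 : mk L' hL' = (mk L hJ.inv)⁻¹ := (inv_eq_of_mul_eq_one_right h3).symm
    have h5 : (mk L hJ.inv) ^ (r * m) = (mk L hJ.inv) ^ (m * r - r ^ 2) * (mk L hJ.inv) ^ (r ^ 2) := by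
      rw [← _root_.pow_add]
      congr 1
      have : r ^ 2 ≤ m * r := by
        rw [sq]
        exact Nat.mul_le_mul_right r hmr
      rw [Nat.sub_add_cancel this, _root_.mul_comm]
    rw [h4, h5, inv_pow]
    generalize mk L hJ.inv ^ (r ^ 2) = a
    generalize mk L hJ.inv ^ (m * r - r ^ 2) = b
    generalize mk P hP ^ (r ^ 2) = c
    generalize mk P₀ hP₀ = d
    generalize mk L₀ hL₀ = d'
    generalize pull _ (mk α hα) = d''
    have h6 : b * a * (c * d * (a⁻¹ * d') * d'') = (a * a⁻¹) * (b * c * (d * d' * d'')) := by ac_rfl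
    rw [h6, mul_inv_cancel, _root_.one_mul]
  obtain ⟨ekey⟩ := hkey
  obtain ⟨e'⟩ := K231.Mul.pullback_tensor_iso ((𝟙 J) ^ r : J ⟶ J).left
    (α := CohB1.tensorMod (CohB1.tensorMod P L') α) e
  have e'' : (Scheme.Modules.pullback ((𝟙 J) ^ r : J ⟶ J).left).obj
      (CohB1.tensorMod (CohB1.tensorMod E (CohB1.tensorMod P L')) α) ≅
      ∐ fun _ : Fin v => CohB1.tensorMod
        (CohB1.tensorMod (CohB1.tensorPow L (m * r - r ^ 2)) (CohB1.tensorPow P (r ^ 2)))
        (CohB1.tensorMod (CohB1.tensorMod P₀ L₀)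
          ((Scheme.Modules.pullback ((𝟙 J) ^ r : J ⟶ J).left).obj α)) :=
    (Scheme.Modules.pullback ((𝟙 J) ^ r : J ⟶ J).left).mapIso (ASBun.K791.Tens.tensAssoc _ _ _) ≪≫ e' ≪≫
      Sigma.mapIso fun _ => ekey
  refine CohqB.LocBaseHH.subsingleton_of_iso e''.symm i ?_
  refine Fga.HShift.subsingleton_coproduct _ i fun _ => ?_
  exact hvan _ hβ hβ0 i hi

theorem isAmple_congr {X : Scheme.{u}} {A B : X.Modules} (e : A ≅ B) (h : CohB1.IsAmple A) : CohB1.IsAmple B :=
  S2329.isAmple_of_iso e h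

/-- An inverse of an invertible module. -/
theorem exists_inverse {X : Scheme.{u}} {A : X.Modules} (hA : PicF.IsInvertible A) :
    ∃ A' : X.Modules, PicF.IsInvertible A' ∧ Nonempty (CohB1.tensorMod A A' ≅ Coh.structureModule X) := by
  obtain ⟨A', hA', h⟩ := exists_mk ((mk A hA)⁻¹)
  refine ⟨A', hA', ?_⟩
  have h1 : mk A hA * mk A' hA' = 1 := by rw [← h, mul_inv_cancel]
  rw [mk_mul_mk, one_def, mk_eq_iff] at h1
  exact h1

/-- Row S16935. -/
theorem gg_twist (hJ : PPAV g J L) (hcrit : Criterion J) (hΘ : PicF.IsInvertible Θ) (hr : 1 ≤ r)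
    (S : Str r dm Θ L) (m : ℕ) (hmr : r ≤ m) (hA : Curv2.IsGloballyGenerated (CohB1.tensorPow S.A m))
    (P : J.left.Modules) (hP : PicF.IsInvertible P)
    (hvan : IT0 J (CohB1.tensorMod (CohB1.tensorPow L (m * r - r ^ 2)) (CohB1.tensorPow P (r ^ 2)))) :
    Curv2.IsGloballyGenerated (CohB1.tensorMod (CohB1.tensorPow Θ m) ((Scheme.Modules.pullback dm.left).obj P)) := by
  obtain ⟨L', hL', hLL⟩ := exists_inverse hJ.inv
  have hE := F1.verD_of_str hJ hΘ hr S m
  have h1 := it0_twist hJ hr hmr hE P hP L' hL' hLL hvan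
  have hPL : PicF.IsInvertible (CohB1.tensorMod P L') := isInvertible_tensorMod hP hL'
  have h2 := hcrit _ (Sga67.LocBasis.isFinLocFree_tensorMod hE.locFree (StrVer.isFinLocFree_of_isInvertible hPL))
    h1 L hJ.ample
  have h3 : Nonempty (CohB1.tensorMod (CohB1.tensorMod P L') L ≅ P) := by
    rw [← mk_eq_iff (isInvertible_tensorMod hPL hJ.inv) hP, ← mk_mul_mk hPL hJ.inv, ← mk_mul_mk hP hL']
    have h4 : mk L hJ.inv * mk L' hL' = 1 := by
      rw [mk_mul_mk, one_def, mk_eq_iff]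
      exact hLL
    rw [_root_.mul_assoc, _root_.mul_comm (mk L' hL'), h4, _root_.mul_one]
  obtain ⟨e3⟩ := h3
  refine F1.gg_of_gg hJ hΘ hr S m hA P hP (StrGG.gg_of_iso ?_ h2)
  exact ASBun.K791.Tens.tensAssoc _ _ _ ≪≫ ASBun.K791.Tens.tensMap (Iso.refl _) e3

/-- Row S16932. -/
theorem gg_pow (hJ : PPAV g J L) (hcrit : Criterion J) (hΘ : PicF.IsInvertible Θ) (hr : 1 ≤ r)
    (S : Str r dm Θ L) (m : ℕ) (hmr : r + 1 ≤ m) (hA : Curv2.IsGloballyGenerated (CohB1.tensorPow S.A m)) :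
    Curv2.IsGloballyGenerated (CohB1.tensorPow Θ m) := by
  have hO : PicF.IsInvertible (Coh.structureModule J.left) := isInvertible_tensorPow hJ.inv 0
  have hn : 1 ≤ m * r - r ^ 2 := by
    have h1 : r ^ 2 + r ≤ m * r := by
      rw [sq, ← Nat.succ_mul]
      exact Nat.mul_le_mul_right r hmr
    omega
  have h1 : Nonempty (CohB1.tensorPow L (m * r - r ^ 2) ≅ CohB1.tensorMod (CohB1.tensorPow L (m * r - r ^ 2))
      (CohB1.tensorPow (Coh.structureModule J.left) (r ^ 2))) := by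
    rw [← mk_eq_iff (isInvertible_tensorPow hJ.inv _) (isInvertible_tensorMod (isInvertible_tensorPow hJ.inv _)
      (isInvertible_tensorPow hO _)), ← mk_mul_mk (isInvertible_tensorPow hJ.inv _) (isInvertible_tensorPow hO _),
      mk_tensorPow hO, ← one_def, _root_.one_pow, _root_.mul_one]
  obtain ⟨e1⟩ := h1
  have h2 := gg_twist hJ hcrit hΘ hr S m (by omega) hA _ hO
    (K231.AvPic.it0_of_ample hJ _ (isAmple_congr e1 (K231.Mul.isAmple_pow hJ hn)))
  refine StrGG.gg_of_iso ?_ h2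
  exact ASBun.K791.Tens.tensMap (Iso.refl _) (ASBun.K791.Tens.pullUnit dm.left) ≪≫ ASBun.K791.Tens.tensRUnit _

end Groth.Agent.BunMod.K596.RowGG
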