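import Groth.Agent.BunMod.K596.StrGG
import Groth.Agent.Grpsch.MulFin
import Groth.Agent.Sga67.PushTwistD
import Groth.Agent.CurvesC.CurveNum

/-!
# Part F1 of the BunMod project: from the structure theorem `Str` to `VerD` and to statements on `M`

* `verD_of_str`     : `dm_* (Θ^m)` satisfies `VerD` with `v = h^0(M₀, A^m)`.
* `gg_of_gg`        : global generation of `Θ^m ⊗ dm^* P`.
* `bijective_app`, `isIso_unit`, `push_structure`, `push_pull` : `dm_* O_M = O_J`, `dm_* dm^* P = P`.
* `push_tensor`     : `dm_* (F ⊗ dm^* P) = dm_* F ⊗ P`.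
* `finrank_H0_push` : `h^0(J, dm_* F) = h^0(M, F)`.
-/

set_option autoImplicit false
universe u
open CategoryTheory CategoryTheory.Limits AlgebraicGeometry MonoidalCategory CartesianMonoidalCategory MonObj

namespace Groth.Agent.BunMod.K596.F1

open Groth.Agent Groth.Agent.BunMod.K596.StrVer Groth.Agent.BunMod.K596.StrGG

/-- `h^0` of a direct image, over a field. -/
theorem finrank_H0_push (k : Type u) [Field k] {X Y : Scheme.{u}} [X.Over (Spec (CommRingCat.of k))]
    [Y.Over (Spec (CommRingCat.of k))] (f : X ⟶ Y)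
    (hf : f ≫ (Y ↘ Spec (CommRingCat.of k)) = X ↘ Spec (CommRingCat.of k)) (F : X.Modules) :
    Module.finrank k (Coh.HH Y ((Scheme.Modules.pushforward f).obj F) 0) = Module.finrank k (Coh.HH X F 0) := by
  let N := (Scheme.Modules.pushforward f).obj F
  let e1 : Coh.HH Y N 0 ≃+ Γ(N, ⊤) := CurvesB.HZero.equivAdd N
  let e2 : Coh.HH X F 0 ≃+ Γ(F, ⊤) := CurvesB.HZero.equivAdd F
  let e : Coh.HH Y N 0 ≃+ Coh.HH X F 0 := e1.trans e2.symm
  have he : ∀ (t : k) (x : Coh.HH Y N 0), e (t • x) = t • e x := by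
    intro t x
    apply e2.injective
    have h1 : e2 (e (t • x)) = e1 (t • x) := e2.apply_symm_apply _
    have h2 : e2 (e x) = e1 x := e2.apply_symm_apply _
    rw [h1]
    refine (CurvesB.HZero.equivAdd_smul_over N t x).trans ?_
    refine Eq.trans ?_ (CurvesB.HZero.equivAdd_smul_over F t (e x)).symm
    change CurvesB.HZero.gl k Y t • e1 x = CurvesB.HZero.gl k X t • e2 (e x)
    rw [h2]
    have h3 : CurvesB.HZero.gl k X t =
        CurvesC.CurveNum.topMap f (CurvesB.HZero.gl k Y t) := by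
      have := CurvesC.CurveNum.toGlobal_comp (A := k) f (Y ↘ Spec (CommRingCat.of k)) t
      rw [hf] at this
      exact this
    rw [h3]
    rfl
  exact (LinearEquiv.finrank_eq { e with map_smul' := he })

variable {k : Type u} [Field k] {g : ℕ} {J : Over (Spec (CommRingCat.of k))} [GrpObj J] {L : J.left.Modules}
  {M : Over (Spec (CommRingCat.of k))} {dm : M ⟶ J} {Θ : M.left.Modules} {r : ℕ}

theorem isFinite_pow (hJ : PPAV g J L) (hr : 1 ≤ r) : IsFinite ((𝟙 J) ^ r : J ⟶ J).left := by
  have := hJ.proper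
  have := hJ.gint
  exact Grpsch.MulFin.isFinite_pow J r hr

theorem flat_pow (hJ : PPAV g J L) (hr : 1 ≤ r) : Flat ((𝟙 J) ^ r : J ⟶ J).left := by
  have := hJ.proper
  have := hJ.gint
  exact Grpsch.MulFin.flat_pow J r hr

theorem surjective_pow (hJ : PPAV g J L) (hr : 1 ≤ r) : Surjective ((𝟙 J) ^ r : J ⟶ J).left := by
  have := hJ.proper
  have := hJ.gint
  exact Grpsch.MulFin.surjective_pow J r hr

theorem isProper_dm (hJ : PPAV g J L) (hr : 1 ≤ r) (S : Str r dm Θ L) : IsProper dm.left := by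
  have := isFinite_pow hJ hr
  have := flat_pow hJ hr
  have := surjective_pow hJ hr
  exact StrVer.isProper_dm S ⟨⟨inferInstance, inferInstance⟩, inferInstance⟩

/-- F1a. -/
theorem verD_of_str (hJ : PPAV g J L) (hΘ : PicF.IsInvertible Θ) (hr : 1 ≤ r) (S : Str r dm Θ L) (m : ℕ) :
    VerD J L r m (@Module.finrank k (Coh.HH S.M₀.left (CohB1.tensorPow S.A m) 0) _ _
      (@Coh.moduleOver k _ S.M₀.left ⟨S.M₀.hom⟩ (CohB1.tensorPow S.A m) 0))
      ((Scheme.Modules.pushforward dm.left).obj (CohB1.tensorPow Θ m)) := by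
  have := isFinite_pow hJ hr
  have := flat_pow hJ hr
  have := surjective_pow hJ hr
  exact verD_of_str' hJ hΘ S m

/-- F1b. `O_J(U) → O_M(dm⁻¹ U)` is bijective for `U` affine. -/
theorem bijective_app (hJ : PPAV g J L) (hr : 1 ≤ r) (S : Str r dm Θ L) (U : J.left.Opens) (hU : IsAffineOpen U) :
    Function.Bijective (dm.left.app U) := by
  have := isFinite_pow hJ hr
  have := flat_pow hJ hr
  have := surjective_pow hJ hr
  exact bijective_app' S U hU

/-- F1b. `P ⟶ dm_* dm^* P` is an isomorphism for `P` invertible. -/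
theorem isIso_unit (hJ : PPAV g J L) (hr : 1 ≤ r) (S : Str r dm Θ L) {P : J.left.Modules} (hP : PicF.IsInvertible P) :
    IsIso ((Scheme.Modules.pullbackPushforwardAdjunction dm.left).unit.app P) :=
  Sga67.PushTwist.isIso_unit dm.left (fun U hU => bijective_app hJ hr S U hU) (hasBases hP)

theorem push_pull (hJ : PPAV g J L) (hr : 1 ≤ r) (S : Str r dm Θ L) {P : J.left.Modules} (hP : PicF.IsInvertible P) :
    Nonempty ((Scheme.Modules.pushforward dm.left).obj ((Scheme.Modules.pullback dm.left).obj P) ≅ P) := by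
  have := isIso_unit hJ hr S hP
  exact ⟨(asIso ((Scheme.Modules.pullbackPushforwardAdjunction dm.left).unit.app P)).symm⟩

/-- F1b. `dm_* O_M = O_J`. -/
theorem push_structure (hJ : PPAV g J L) (hr : 1 ≤ r) (S : Str r dm Θ L) :
    Nonempty ((Scheme.Modules.pushforward dm.left).obj (Coh.structureModule M.left) ≅ Coh.structureModule J.left) := by
  obtain ⟨e⟩ := push_pull hJ hr S (P := Coh.structureModule J.left) (Fdesc.LocGen.isInvertible_tensorPow hJ.inv 0)
  exact ⟨(Scheme.Modules.pushforward dm.left).mapIso (ASBun.K791.Tens.pullUnit dm.left).symm ≪≫ e⟩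

omit [GrpObj J] in
/-- F1c. -/
theorem push_tensor (dm : M ⟶ J) (F : M.left.Modules) (P : J.left.Modules) (hP : PicF.IsInvertible P) :
    Nonempty ((Scheme.Modules.pushforward dm.left).obj
        (CohB1.tensorMod F ((Scheme.Modules.pullback dm.left).obj P)) ≅
      CohB1.tensorMod ((Scheme.Modules.pushforward dm.left).obj F) P) :=
  nonempty_push_tensor dm.left F hP

/-- F1d. -/
theorem gg_of_gg (hJ : PPAV g J L) (hΘ : PicF.IsInvertible Θ) (hr : 1 ≤ r) (S : Str r dm Θ L) (m : ℕ)
    (hA : Curv2.IsGloballyGenerated (CohB1.tensorPow S.A m)) (P : J.left.Modules) (hP : PicF.IsInvertible P)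
    (h : Curv2.IsGloballyGenerated
      (CohB1.tensorMod ((Scheme.Modules.pushforward dm.left).obj (CohB1.tensorPow Θ m)) P)) :
    Curv2.IsGloballyGenerated (CohB1.tensorMod (CohB1.tensorPow Θ m) ((Scheme.Modules.pullback dm.left).obj P)) := by
  have := isFinite_pow hJ hr
  have := flat_pow hJ hr
  have := surjective_pow hJ hr
  exact gg_of_gg' hJ hΘ S m hA P hP h

omit [GrpObj J] in
/-- `h^0(J, dm_* F) = h^0(M, F)`. -/
theorem finrank_push (dm : M ⟶ J) (F : M.left.Modules) :
    @Module.finrank k (Coh.HH J.left ((Scheme.Modules.pushforward dm.left).obj F) 0) _ _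
      (@Coh.moduleOver k _ J.left ⟨J.hom⟩ ((Scheme.Modules.pushforward dm.left).obj F) 0) =
    @Module.finrank k (Coh.HH M.left F 0) _ _ (@Coh.moduleOver k _ M.left ⟨M.hom⟩ F 0) := by
  let _ : J.left.Over (Spec (CommRingCat.of k)) := ⟨J.hom⟩
  let _ : M.left.Over (Spec (CommRingCat.of k)) := ⟨M.hom⟩
  exact finrank_H0_push k dm.left (Over.w dm) F

end Groth.Agent.BunMod.K596.F1
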