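import Groth.Agent.AbSch.K451.BoxPush
import Groth.Agent.VarietyB.ProjForm
import Groth.Agent.ASBun.K791.Tens
import Groth.Agent.Ega2.TensPow
import Groth.Agent.Ega2.TensMon

/-!
# Direct images of external products; powers and pull back

* `pullTPow` : `f^*(L^n) ≅ (f^*L)^n`.
* `nonempty_box` : for `p_* B ≅ O^v` on `S` and `N` finite locally free on `Y` (flat over `S`),
  `q_*(p'^* B ⊗ q^* N) ≅ N^v` on the fibre product.
* `nonempty_pow_box` : if `T ≅ a^*A ⊗ b^*(L^r)` then `T^m ≅ a^*(A^m) ⊗ b^*(L^(r m))`.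
-/

set_option autoImplicit false
universe u

open CategoryTheory CategoryTheory.Limits AlgebraicGeometry MonoidalCategory

namespace Groth.Agent.BunMod.K596.Comp

open Groth.Agent Groth.Agent.ASBun.K791.Tens Groth.Agent.VarietyB.TensCoh

/-- `f^*(L^n) ≅ (f^*L)^n`. -/
noncomputable def pullTPow {X Y : Scheme.{u}} (f : X ⟶ Y) (L : Y.Modules) : (n : ℕ) →
    ((Scheme.Modules.pullback f).obj (CohB1.tensorPow L n) ≅
      CohB1.tensorPow ((Scheme.Modules.pullback f).obj L) n)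
  | 0 => pullUnit f
  | n + 1 => pullTens f _ _ ≪≫ tensMap (pullTPow f L n) (Iso.refl _)

theorem nonempty_pow_box {P X Y : Scheme.{u}} (a : P ⟶ X) (b : P ⟶ Y) {T : P.Modules} {A : X.Modules}
    {L : Y.Modules} {r : ℕ} (e : Nonempty (T ≅ CohB1.tensorMod ((Scheme.Modules.pullback a).obj A)
      ((Scheme.Modules.pullback b).obj (CohB1.tensorPow L r)))) (m : ℕ) :
    Nonempty (CohB1.tensorPow T m ≅ CohB1.tensorMod ((Scheme.Modules.pullback a).obj (CohB1.tensorPow A m))
      ((Scheme.Modules.pullback b).obj (CohB1.tensorPow L (r * m)))) := by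
  obtain ⟨e⟩ := e
  exact ⟨Ega2.TensPow.powIso e m ≪≫ Ega2.TensPow.powTensor _ _ m ≪≫
    tensMap (pullTPow a A m).symm ((pullTPow b _ m).symm ≪≫
      (Scheme.Modules.pullback b).mapIso (Ega2.TensPow.powMul L r m))⟩

section Box

variable {X Y P S : Scheme.{u}} {f : X ⟶ S} {g : Y ⟶ S} {p : P ⟶ X} {q : P ⟶ Y}

/-- `q_* p^* B ≅ O^v` when `f_* B ≅ O^v`. -/
theorem nonempty_push_pull (h : IsPullback p q f g) [QuasiCompact f] [QuasiSeparated f] [Flat g]
    {B : X.Modules} [Coh.IsQCoh B] {v : ℕ}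
    (e : Nonempty ((Scheme.Modules.pushforward f).obj B ≅ FlatMod.freeMod S v)) :
    Nonempty ((Scheme.Modules.pushforward q).obj ((Scheme.Modules.pullback p).obj B) ≅ FlatMod.freeMod Y v) := by
  obtain ⟨e⟩ := e
  obtain ⟨e1⟩ := K451.BoxPush.nonempty_flat_bc h B
  exact ⟨e1.symm ≪≫ (Scheme.Modules.pullback g).mapIso e ≪≫ pullCoprod g _ ≪≫
    Sigma.mapIso fun _ => pullUnit g⟩

theorem nonempty_box (h : IsPullback p q f g) [QuasiCompact f] [QuasiSeparated f] [Flat g]
    {B : X.Modules} [Coh.IsQCoh B] {v : ℕ}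
    (e : Nonempty ((Scheme.Modules.pushforward f).obj B ≅ FlatMod.freeMod S v))
    {N : Y.Modules} (hN : HasBases N) :
    Nonempty ((Scheme.Modules.pushforward q).obj (CohB1.tensorMod ((Scheme.Modules.pullback p).obj B)
      ((Scheme.Modules.pullback q).obj N)) ≅ ∐ fun _ : Fin v => N) := by
  obtain ⟨e1⟩ := nonempty_push_pull h e
  exact ⟨(Scheme.Modules.pushforward q).mapIso (tensComm _ _) ≪≫ (VarietyB.ProjForm.projIso q hN _).symm ≪≫
    tensMap (Iso.refl N) e1 ≪≫ tensCoprod N _ ≪≫ Sigma.mapIso fun _ => tensRUnit N⟩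

end Box

end Groth.Agent.BunMod.K596.Comp
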