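import Groth.Agent.Krr.H463.SpecField
import Groth.Agent.Dcoh.PushFLF304
import Groth.Agent.S0036
import Groth.Agent.CohqB.LocalQC
import Groth.Agent.Dcoh.DerSch
import Groth.Agent.Sga67.CohBasic

/-!
# Coherent modules over the spectrum of a field; direct images of coherent modules on proper schemes over a field
-/

set_option autoImplicit false
universe u

open CategoryTheory CategoryTheory.Limits AlgebraicGeometry

namespace Groth.Agent.BunMod.K596.FieldFree

open Groth.Agent

theorem isField_top (k : Type u) [Field k] : IsField Γ(Spec (CommRingCat.of k), ⊤) :=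
  (Scheme.ΓSpecIso (CommRingCat.of k)).commRingCatIsoToRingEquiv.toMulEquiv.isField
    (Field.toIsField k)

theorem isFinLocFree_of_isCoh (k : Type u) [Field k] {N : (Spec (CommRingCat.of k)).Modules} (hN : Coh.IsCoh N) :
    FlatMod.IsFinLocFree N := by
  refine Dcoh.PushFLF304.isFinLocFree_of_sections hN.1 (fun V => V = ⊤)
    (fun x => ⟨⊤, rfl, isAffineOpen_top _, trivial⟩) ?_
  rintro V rfl hV
  have h1 : Module.Finite Γ(Spec (CommRingCat.of k), ⊤) Γ(N, ⊤) :=
    Sga67.CohBasic.finite_sections hN ⟨⊤, hV⟩
  refine ⟨h1, ?_⟩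
  let _ := (isField_top k).toField
  infer_instance

theorem exists_free (k : Type u) [Field k] {N : (Spec (CommRingCat.of k)).Modules} (hN : Coh.IsCoh N) :
    Nonempty (N ≅ FlatMod.freeMod (Spec (CommRingCat.of k))
      (Module.finrank k (Coh.HH (Spec (CommRingCat.of k)) N 0))) := by
  obtain ⟨m, -, e⟩ := Krr.H463.SpecField.exists_rank k (isFinLocFree_of_isCoh k hN)
  have h1 := Krr.H463.SpecField.euler_of_iso_free k m e
  rw [Krr.H463.SpecField.euler_eq] at h1
  have h2 : Module.finrank k (Coh.HH (Spec (CommRingCat.of k)) N 0) = m := by exact_mod_cast h1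
  rw [h2]
  exact e

theorem isCoh_push {X S : Scheme.{u}} (f : X ⟶ S) [IsProper f]
    [IsLocallyNoetherian S] (M : X.Modules) (hM : Coh.IsCoh M) :
    Coh.IsCoh ((Scheme.Modules.pushforward f).obj M) := by
  have := Dcoh.DerSch.hasInjectiveResolutions X
  refine CohqB.LocalQC.isCoh_of_iso ?_ (S0036.result f M hM 0)
  exact ((Scheme.Modules.pushforward f).rightDerivedZeroIsoSelf).app M

/-- The direct image to `Spec k` of a coherent module on a proper scheme is free of rank `h^0`. -/
theorem push_free (k : Type u) [Field k] {X : Scheme.{u}} [X.Over (Spec (CommRingCat.of k))]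
    [IsProper (X ↘ Spec (CommRingCat.of k))] {F : X.Modules} (hF : Coh.IsCoh F) :
    Nonempty ((Scheme.Modules.pushforward (X ↘ Spec (CommRingCat.of k))).obj F ≅
      FlatMod.freeMod (Spec (CommRingCat.of k)) (Module.finrank k (Coh.HH X F 0))) := by
  obtain ⟨e⟩ := exists_free k (isCoh_push (X ↘ Spec (CommRingCat.of k)) F hF)
  rw [Krr.H463.SpecField.finrank_H0_push] at e
  exact ⟨e⟩

end Groth.Agent.BunMod.K596.FieldFree
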