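import Groth.Agent.BunMod.K596.Iface
import Groth.Agent.BunMod.K596.Comp
import Groth.Agent.BunMod.K596.FieldFree
import Groth.Agent.Variety.K436.H0Tensor
import Groth.Agent.Curves.K314.H0One
import Groth.Agent.Desc.FinLocFreeSections
import Groth.Agent.Ega1.QcqsPush
import Groth.Agent.Fdesc.LocGen
import Groth.Agent.Dcoh.FinLocFree
import Groth.Agent.S0086

/-!
# From the structure theorem to `VerD` (node F1a)
-/

set_option autoImplicit false
universe u
open CategoryTheory CategoryTheory.Limits AlgebraicGeometry MonoidalCategory CartesianMonoidalCategory MonObj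

namespace Groth.Agent.BunMod.K596.StrVer

open Groth.Agent Groth.Agent.ASBun.K791.Tens Groth.Agent.VarietyB.TensCoh Groth.Agent.BunMod.K596.Comp

theorem hasBases {X : Scheme.{u}} {L : X.Modules} (hL : PicF.IsInvertible L) : HasBases L :=
  HasBases.of_isFinLocFreeOfRank (Ega2.QCohLocal.isFinLocFreeOfRank_one_iff.mpr hL)

section Coprod

variable {X : Scheme.{u}}

/-- Finite locally free modules as an object property. -/
abbrev flf (X : Scheme.{u}) : ObjectProperty X.Modules := fun M => FlatMod.IsFinLocFree M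

instance : (flf X).IsClosedUnderIsomorphisms where
  of_iso e h := Dcoh.FinLocFree.isFinLocFree_of_iso e h

instance : (flf X).ContainsZero where
  exists_zero := ⟨_, isZero_zero _, Dcoh.FinLocFree.isFinLocFree_of_isZero (isZero_zero _)⟩

instance : (flf X).IsClosedUnderBinaryCoproducts where
  colimitsOfShape_le := by
    rintro M ⟨p⟩
    have h1 : flf X (p.diag.obj ⟨WalkingPair.left⟩) := p.prop_diag_obj _
    have h2 : flf X (p.diag.obj ⟨WalkingPair.right⟩) := p.prop_diag_obj _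
    have e : M ≅ (p.diag.obj ⟨WalkingPair.left⟩) ⊞ (p.diag.obj ⟨WalkingPair.right⟩) :=
      p.isColimit.coconePointsIsoOfNatIso (BinaryBiproduct.isColimit _ _) (diagramIsoPair p.diag)
    exact (flf X).prop_of_iso e.symm (Dcoh.FinLocFree.isFinLocFree_biprod h1 h2)

instance : (flf X).IsClosedUnderFiniteCoproducts := .mk'

theorem isFinLocFree_coprod {I : Type} [Finite I] (M : I → X.Modules)
    (h : ∀ j, FlatMod.IsFinLocFree (M j)) : FlatMod.IsFinLocFree (∐ M) :=
  (flf X).prop_coproduct h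

theorem isFinLocFree_of_isInvertible {L : X.Modules} (hL : PicF.IsInvertible L) : FlatMod.IsFinLocFree L := by
  intro x
  obtain ⟨U, hU, e⟩ := Ega2.QCohLocal.isFinLocFreeOfRank_one_iff.mpr hL x
  exact ⟨U, 1, hU, e⟩

end Coprod

section General

variable {M₀ J M P B : Scheme.{u}} {p : P ⟶ M₀} {s : P ⟶ J} {q : P ⟶ M} {d : M ⟶ J} {n : J ⟶ J} {a : M₀ ⟶ B}
  {b : J ⟶ B}

theorem pull_push (hsq : IsPullback q s d n) (hp : IsPullback p s a b) [QuasiCompact d] [QuasiSeparated d] [Flat n]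
    [Flat b] [QuasiCompact a] [QuasiSeparated a] {Θ : M.Modules} (hΘ : PicF.IsInvertible Θ) {A : M₀.Modules}
    (hA : PicF.IsInvertible A) {L : J.Modules} (hL : PicF.IsInvertible L) (r m : ℕ) {v : ℕ}
    (e : Nonempty ((Scheme.Modules.pullback q).obj Θ ≅ CohB1.tensorMod ((Scheme.Modules.pullback p).obj A)
      ((Scheme.Modules.pullback s).obj (CohB1.tensorPow L r))))
    (ev : Nonempty ((Scheme.Modules.pushforward a).obj (CohB1.tensorPow A m) ≅ FlatMod.freeMod B v)) :
    Nonempty ((Scheme.Modules.pullback n).obj ((Scheme.Modules.pushforward d).obj (CohB1.tensorPow Θ m)) ≅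
      ∐ fun _ : Fin v => CohB1.tensorPow L (r * m)) := by
  have h1 : PicF.IsInvertible (CohB1.tensorPow Θ m) := Fdesc.LocGen.isInvertible_tensorPow hΘ m
  have h2 : PicF.IsInvertible (CohB1.tensorPow A m) := Fdesc.LocGen.isInvertible_tensorPow hA m
  have h3 : PicF.IsInvertible (CohB1.tensorPow L (r * m)) := Fdesc.LocGen.isInvertible_tensorPow hL _
  have : Coh.IsQCoh (CohB1.tensorPow Θ m) := Ega2.QCohLocal.isQCoh_of_isInvertible h1
  have : Coh.IsQCoh (CohB1.tensorPow A m) := Ega2.QCohLocal.isQCoh_of_isInvertible h2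
  obtain ⟨e1⟩ := K451.BoxPush.nonempty_flat_bc hsq (CohB1.tensorPow Θ m)
  obtain ⟨e2⟩ := nonempty_pow_box p s e m
  obtain ⟨e3⟩ := nonempty_box hp ev (hasBases h3)
  exact ⟨e1 ≪≫ (Scheme.Modules.pushforward s).mapIso (pullTPow q Θ m ≪≫ e2) ≪≫ e3⟩

end General

section Main

variable {k : Type u} [Field k] {g : ℕ} {J : Over (Spec (CommRingCat.of k))} [GrpObj J] {L : J.left.Modules}
  {M : Over (Spec (CommRingCat.of k))} {dm : M ⟶ J} {Θ : M.left.Modules} {r : ℕ}

theorem sq_left (S : Str r dm Θ L) :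
    IsPullback S.q.left (snd S.M₀ J).left dm.left ((𝟙 J) ^ r : J ⟶ J).left :=
  S.sq.map (Over.forget _)

theorem prod_left (S : Str r dm Θ L) :
    IsPullback (fst S.M₀ J).left (snd S.M₀ J).left S.M₀.hom J.hom :=
  IsPullback.of_hasPullback S.M₀.hom J.hom

theorem isProper_snd (S : Str r dm Θ L) : IsProper (snd S.M₀ J).left :=
  MorphismProperty.of_isPullback (P := @IsProper) (prod_left S) S.proper

theorem isProper_dm (S : Str r dm Θ L) (h : (@Surjective ⊓ @Flat ⊓ @QuasiCompact : MorphismProperty Scheme.{u})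
    ((𝟙 J) ^ r : J ⟶ J).left) : IsProper dm.left := by
  have := S0086.result.{u}
  exact MorphismProperty.of_isPullback_of_descendsAlong (P := @IsProper) (sq_left S).flip h (isProper_snd S)

/-- `0 < h^0(M₀, A^m)`. -/
theorem h0_pos (S : Str r dm Θ L) (m : ℕ) :
    0 < (@Module.finrank k (Coh.HH S.M₀.left (CohB1.tensorPow S.A m) 0) _ _
      (@Coh.moduleOver k _ S.M₀.left ⟨S.M₀.hom⟩ (CohB1.tensorPow S.A m) 0)) := by
  let _ : S.M₀.left.Over (Spec (CommRingCat.of k)) := ⟨S.M₀.hom⟩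
  have h1 : IsProper (S.M₀.left ↘ Spec (CommRingCat.of k)) := S.proper
  have h2 : GeometricallyIntegral (S.M₀.left ↘ Spec (CommRingCat.of k)) := S.gint
  have h3 : IsIntegral S.M₀.left :=
    GeometricallyIntegral.isIntegral_of_subsingleton (f := S.M₀.left ↘ Spec (CommRingCat.of k))
  obtain ⟨s, hs⟩ := S.sec
  have h4 := K314.H0One.finrank_eq_one_of_geometricallyIntegral k S.M₀.left
  have h5 := K436.H0Tensor.finrank_le_tensorPow k
    (N := Coh.structureModule S.M₀.left) (Fdesc.LocGen.isInvertible_tensorPow S.inv 0) S.inv s hs m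
  have h6 := K436.H0Tensor.finrank_congr k (Ega2.Tens.lunit (CohB1.tensorPow S.A m)) 0
  omega

/-- `(M₀)_* (A^m)` is free of rank `h^0(M₀, A^m)`. -/
theorem push_free (S : Str r dm Θ L) (m : ℕ) :
    Nonempty ((Scheme.Modules.pushforward S.M₀.hom).obj (CohB1.tensorPow S.A m) ≅
      FlatMod.freeMod (Spec (CommRingCat.of k)) (@Module.finrank k (Coh.HH S.M₀.left (CohB1.tensorPow S.A m) 0) _ _
      (@Coh.moduleOver k _ S.M₀.left ⟨S.M₀.hom⟩ (CohB1.tensorPow S.A m) 0))) := by
  let _ : S.M₀.left.Over (Spec (CommRingCat.of k)) := ⟨S.M₀.hom⟩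
  have h1 : IsProper (S.M₀.left ↘ Spec (CommRingCat.of k)) := S.proper
  have h2 : IsLocallyNoetherian S.M₀.left :=
    LocallyOfFiniteType.isLocallyNoetherian (S.M₀.left ↘ Spec (CommRingCat.of k))
  exact FieldFree.push_free k (Fga.HodgeSec.isCoh_of_isInvertible (Fdesc.LocGen.isInvertible_tensorPow S.inv m))

/-- F1a, with the facts on `[r]` as hypotheses. -/
theorem verD_of_str' (hJ : PPAV g J L) (hΘ : PicF.IsInvertible Θ) (S : Str r dm Θ L)
    [Flat ((𝟙 J) ^ r : J ⟶ J).left] [Surjective ((𝟙 J) ^ r : J ⟶ J).left] [QuasiCompact ((𝟙 J) ^ r : J ⟶ J).left]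
    (m : ℕ) :
    VerD J L r m (@Module.finrank k (Coh.HH S.M₀.left (CohB1.tensorPow S.A m) 0) _ _
      (@Coh.moduleOver k _ S.M₀.left ⟨S.M₀.hom⟩ (CohB1.tensorPow S.A m) 0))
      ((Scheme.Modules.pushforward dm.left).obj (CohB1.tensorPow Θ m)) := by
  have hdm : IsProper dm.left := isProper_dm S ⟨⟨inferInstance, inferInstance⟩, inferInstance⟩
  have hsm := hJ.smooth
  have hM₀ := S.proper
  have h1 := pull_push (sq_left S) (prod_left S) hΘ S.inv hJ.inv r m S.iso (push_free S m)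
  have h2 : PicF.IsInvertible (CohB1.tensorPow L (r * m)) := Fdesc.LocGen.isInvertible_tensorPow hJ.inv _
  refine ⟨?_, h0_pos S m, h1⟩
  obtain ⟨e⟩ := h1
  refine Desc.FinLocFreeSections.isFinLocFree_of_pullback ((𝟙 J) ^ r : J ⟶ J).left _
    (Ega1.QcqsPush.isQCoh_pushforward _ _ (Ega2.QCohLocal.isQCoh_of_isInvertible
      (Fdesc.LocGen.isInvertible_tensorPow hΘ m))) ?_
  exact Dcoh.FinLocFree.isFinLocFree_of_iso e.symm
    (isFinLocFree_coprod _ fun _ => isFinLocFree_of_isInvertible h2)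

end Main

end Groth.Agent.BunMod.K596.StrVer
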