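import Groth.Agent.BunMod.K596.Mate
import Groth.Agent.BunMod.K596.Comp
import Groth.Agent.Coherent.K791.FBC0
import Groth.Agent.PerfB.FlatPull
import Groth.Agent.PerfB.TensExact
import Groth.Agent.Sga67.SerreVB

/-!
# Global generation from the direct image along a product-like morphism

`q : P ⟶ M`, `s : P ⟶ J` is the base change of `(d : M ⟶ J, n : J ⟶ J)` with `n` faithfully flat, `p : P ⟶ M₀`.
If `q^* F ≅ p^* B ⊗ s^* N` with `B` globally generated, then `d^* d_* F ⟶ F` is an epimorphism.
-/

set_option autoImplicit false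
universe u
open CategoryTheory CategoryTheory.Limits AlgebraicGeometry MonoidalCategory

namespace Groth.Agent.BunMod.K596.CounitGG

open Groth.Agent Groth.Agent.ASBun.K791.Tens Groth.Agent.VarietyB.TensCoh
open Scheme.Modules (pullbackPushforwardAdjunction)

/-- Pull back of a globally generated module (finite form). -/
theorem exists_epi_pullback {X Y : Scheme.{u}} (f : X ⟶ Y) {F : Y.Modules} {t : ℕ} (π : FlatMod.freeMod Y t ⟶ F) [Epi π] :
    ∃ π' : FlatMod.freeMod X t ⟶ (Scheme.Modules.pullback f).obj F, Epi π' := by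
  have : Epi ((Scheme.Modules.pullback f).map π) :=
    (Scheme.Modules.pullback f).map_epi π
  exact ⟨((pullCoprod f _ ≪≫ Sigma.mapIso fun _ => pullUnit f).inv ≫ (Scheme.Modules.pullback f).map π :),
    epi_comp _ _⟩

theorem exists_epi_tensor {X : Scheme.{u}} {F : X.Modules} (N : X.Modules) {t : ℕ} (π : FlatMod.freeMod X t ⟶ F) [Epi π] :
    ∃ π' : (∐ fun _ : Fin t => N) ⟶ CohB1.tensorMod F N, Epi π' := by
  have h0 := PerfB.TensExact.preservesFiniteColimits_tensorRightMod N
  have h : Epi ((DCoh.tensorRightMod N).map π) := (DCoh.tensorRightMod N).map_epi π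
  let e : CohB1.tensorMod (FlatMod.freeMod X t) N ≅ ∐ fun _ : Fin t => N :=
    coprodTens _ N ≪≫ Sigma.mapIso fun _ => tensLUnit N
  let π' : CohB1.tensorMod (FlatMod.freeMod X t) N ⟶ CohB1.tensorMod F N := (DCoh.tensorRightMod N).map π
  have h' : Epi π' := h
  exact ⟨e.inv ≫ π', epi_comp _ _⟩

section General

variable {M₀ J M P : Scheme.{u}} {p : P ⟶ M₀} {s : P ⟶ J} {q : P ⟶ M} {d : M ⟶ J} {n : J ⟶ J}

theorem epi_counit_box {B : M₀.Modules} {N : J.Modules} {t : ℕ} (π : FlatMod.freeMod M₀ t ⟶ B) [Epi π] {G : P.Modules}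
    (e : Nonempty (G ≅ CohB1.tensorMod ((Scheme.Modules.pullback p).obj B) ((Scheme.Modules.pullback s).obj N))) :
    Epi ((pullbackPushforwardAdjunction s).counit.app G) := by
  obtain ⟨e⟩ := e
  obtain ⟨π1, h1⟩ := exists_epi_pullback p π
  obtain ⟨π2, h2⟩ := exists_epi_tensor ((Scheme.Modules.pullback s).obj N) π1
  let φ : (Scheme.Modules.pullback s).obj (∐ fun _ : Fin t => N) ⟶ G :=
    (pullCoprod s (fun _ : Fin t => N)).hom ≫ π2 ≫ e.inv
  have : Epi φ := inferInstance
  exact Mate.epi_counit_of_epi s G φ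

theorem epi_counit (hsq : IsPullback q s d n) [QuasiCompact d] [QuasiSeparated d] [Flat n] [Surjective n]
    {F : M.Modules} (hF : Coh.IsQCoh F) {B : M₀.Modules} {N : J.Modules} {t : ℕ} (π : FlatMod.freeMod M₀ t ⟶ B) [Epi π]
    (e : Nonempty ((Scheme.Modules.pullback q).obj F ≅
      CohB1.tensorMod ((Scheme.Modules.pullback p).obj B) ((Scheme.Modules.pullback s).obj N))) :
    Epi ((pullbackPushforwardAdjunction d).counit.app F) := by
  have h1 := epi_counit_box π e
  have h2 : IsIso (CohBC.bc0 d n s q hsq.w F) := Coherent.K791.FBC0.isIso_bc0_flat hsq hF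
  have h3 := Mate.epi_pullback_counit d n s q hsq.w F
  have : Flat q := MorphismProperty.of_isPullback (P := @Flat) hsq.flip inferInstance
  have : Surjective q := MorphismProperty.of_isPullback (P := @Surjective) hsq.flip inferInstance
  exact PerfB.FlatPull.epi_of_epi_pullback_map q _

/-- `F` is globally generated if `d_* F` is and `d^* d_* F ⟶ F` is an epimorphism. -/
theorem gg_of_epi_counit {F : M.Modules} (h : Epi ((pullbackPushforwardAdjunction d).counit.app F)) {t : ℕ}
    (π : FlatMod.freeMod J t ⟶ (Scheme.Modules.pushforward d).obj F) [Epi π] : Curv2.IsGloballyGenerated F := by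
  obtain ⟨π1, h1⟩ := exists_epi_pullback d π
  have : Epi (π1 ≫ (pullbackPushforwardAdjunction d).counit.app F) := epi_comp _ _
  exact Sga67.SerreVB.isGloballyGenerated_of_epi_freeMod (π1 ≫ (pullbackPushforwardAdjunction d).counit.app F)

end General

end Groth.Agent.BunMod.K596.CounitGG
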