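import Groth.Prelude.Def_CohBC2

/-!
# Base change and the counit for modules

For a commutative square `g' ≫ f = f' ≫ g` the counit of `f^* ⊣ f_*` pulled back to `X'` is the counit of `f'^* ⊣ f'_*`
composed with the base change morphism: `f'^*(bc0) ≫ ε_{f'} = θ ≫ g'^*(ε_f)`.
-/

set_option autoImplicit false

universe u v₁ v₂ v₃ v₄ u₁ u₂ u₃ u₄

open CategoryTheory CategoryTheory.Limits AlgebraicGeometry

namespace Groth.Agent.BunMod.K596.Mate

section Abstract

variable {C : Type u₁} [Category.{v₁} C] {D : Type u₂} [Category.{v₂} D]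
variable {C' : Type u₃} [Category.{v₃} C'] {D' : Type u₄} [Category.{v₄} D']
variable {Φ : C ⥤ D} {Ψ : D ⥤ C} (a : Φ ⊣ Ψ)
variable {Φ' : C' ⥤ D'} {Ψ' : D' ⥤ C'} (a' : Φ' ⊣ Ψ')
variable {L : C ⥤ C'} {R : C' ⥤ C} (adj : L ⊣ R)
variable {L' : D ⥤ D'} {R' : D' ⥤ D} (adj' : L' ⊣ R')
variable (ρ : Ψ' ⋙ R ≅ R' ⋙ Ψ)

/-- The isomorphism of left adjoints conjugate to an isomorphism of right adjoints. -/
noncomputable def theta : Φ ⋙ L' ≅ L ⋙ Φ' :=
  (conjugateIsoEquiv (adj.comp a') (a.comp adj')).symm ρ

theorem unit_theta (Z : C) :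
    (adj.comp a').unit.app Z ≫ ρ.hom.app ((L ⋙ Φ').obj Z) =
      (a.comp adj').unit.app Z ≫ (R' ⋙ Ψ).map ((theta a a' adj adj' ρ).hom.app Z) :=
  unit_conjugateEquiv_symm (adj.comp a') (a.comp adj') ρ.hom Z

/-- The base change map attached to `ρ` and its characterization by `theta`. -/
theorem map_bc_counit (K : C') :
    L'.map ((a.homEquiv _ _).symm (R.map (a'.unit.app K) ≫ ρ.hom.app (Φ'.obj K))) ≫
      adj'.counit.app (Φ'.obj K) =
    (theta a a' adj adj' ρ).hom.app (R.obj K) ≫ Φ'.map (adj.counit.app K) := by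
  refine (Adjunction.homEquiv_counit (adj := adj') (g :=
    (a.homEquiv (R.obj K) (R'.obj (Φ'.obj K))).symm
      (R.map (a'.unit.app K) ≫ ρ.hom.app (Φ'.obj K)))).symm.trans ?_
  apply (adj'.homEquiv (Φ.obj (R.obj K)) (Φ'.obj K)).injective
  apply (a.homEquiv (R.obj K) (R'.obj (Φ'.obj K))).injective
  rw [Equiv.apply_symm_apply, Equiv.apply_symm_apply]
  refine Eq.trans ?_ (a.homEquiv_unit _ _ _).symm
  rw [adj'.homEquiv_unit]
  have h1 := unit_theta a a' adj adj' ρ (R.obj K)
  have h2 : a.unit.app (R.obj K) ≫ Ψ.map (adj'.unit.app (Φ.obj (R.obj K)) ≫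
      R'.map ((theta a a' adj adj' ρ).hom.app (R.obj K) ≫ Φ'.map (adj.counit.app K))) =
      ((a.comp adj').unit.app (R.obj K) ≫
        (R' ⋙ Ψ).map ((theta a a' adj adj' ρ).hom.app (R.obj K))) ≫
        (R' ⋙ Ψ).map (Φ'.map (adj.counit.app K)) := by
    simp [Adjunction.comp_unit_app]
  have h3 : ρ.hom.app ((L ⋙ Φ').obj (R.obj K)) ≫ (R' ⋙ Ψ).map (Φ'.map (adj.counit.app K)) =
      (Ψ' ⋙ R).map (Φ'.map (adj.counit.app K)) ≫ ρ.hom.app (Φ'.obj K) :=
    (ρ.hom.naturality _).symm
  refine Eq.trans ?_ h2.symm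
  rw [← h1, Category.assoc, h3, Adjunction.comp_unit_app]
  have h4 : a'.unit.app (L.obj (R.obj K)) ≫ Ψ'.map (Φ'.map (adj.counit.app K)) =
      adj.counit.app K ≫ a'.unit.app K := (a'.unit.naturality _).symm
  simp only [Functor.comp_map, Category.assoc]
  rw [← R.map_comp_assoc, h4, R.map_comp]
  simp

end Abstract

section Schemes

open Scheme.Modules hiding pullback

variable {X S X' S' : Scheme.{u}} (f : X ⟶ S) (g : S' ⟶ S) (f' : X' ⟶ S') (g' : X' ⟶ X)
  (w : g' ≫ f = f' ≫ g) (F : X.Modules)

/-- The isomorphism between the two composites of direct images. -/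
noncomputable def pushSq : pushforward g' ⋙ pushforward f ≅ pushforward f' ⋙ pushforward g :=
  pushforwardComp g' f ≪≫ pushforwardCongr w ≪≫ (pushforwardComp f' g).symm

/-- The isomorphism between the two composites of inverse images. -/
noncomputable def pullSq : Scheme.Modules.pullback g ⋙ Scheme.Modules.pullback f' ≅ Scheme.Modules.pullback f ⋙ Scheme.Modules.pullback g' :=
  theta (pullbackPushforwardAdjunction g) (pullbackPushforwardAdjunction g')
    (pullbackPushforwardAdjunction f) (pullbackPushforwardAdjunction f') (pushSq f g f' g' w)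

theorem bc0_eq : CohBC.bc0 f g f' g' w F = ((pullbackPushforwardAdjunction g).homEquiv _ _).symm
      ((pushforward f).map ((pullbackPushforwardAdjunction g').unit.app F) ≫
        (pushSq f g f' g' w).hom.app ((Scheme.Modules.pullback g').obj F)) := by
  unfold CohBC.bc0 CohBC.bc0Adj pushSq
  simp only [Iso.trans_hom, NatTrans.comp_app, Iso.symm_hom]
  rfl

theorem map_bc0_counit :
    (Scheme.Modules.pullback f').map (CohBC.bc0 f g f' g' w F) ≫
      (pullbackPushforwardAdjunction f').counit.app ((Scheme.Modules.pullback g').obj F) =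
    (pullSq f g f' g' w).hom.app ((pushforward f).obj F) ≫
      (Scheme.Modules.pullback g').map ((pullbackPushforwardAdjunction f).counit.app F) := by
  rw [bc0_eq]
  exact map_bc_counit (pullbackPushforwardAdjunction g) (pullbackPushforwardAdjunction g')
    (pullbackPushforwardAdjunction f) (pullbackPushforwardAdjunction f') (pushSq f g f' g' w) F

/-- If the base change map is an isomorphism and the counit of `f'` at `g'^* F` is an epimorphism, then so is the pull
back of the counit of `f` at `F`. -/
theorem epi_pullback_counit [IsIso (CohBC.bc0 f g f' g' w F)]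
    [Epi ((pullbackPushforwardAdjunction f').counit.app ((Scheme.Modules.pullback g').obj F))] :
    Epi ((Scheme.Modules.pullback g').map ((pullbackPushforwardAdjunction f).counit.app F)) := by
  have h := map_bc0_counit f g f' g' w F
  have h1 : Epi ((pullSq f g f' g' w).hom.app ((pushforward f).obj F) ≫
      (Scheme.Modules.pullback g').map ((pullbackPushforwardAdjunction f).counit.app F)) := by
    rw [← h]
    infer_instance
  exact epi_of_epi ((pullSq f g f' g' w).hom.app ((pushforward f).obj F)) _

/-- If some epimorphism `f^* N ⟶ F` exists, the counit at `F` is an epimorphism. -/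
theorem epi_counit_of_epi {N : S.Modules} (φ : (Scheme.Modules.pullback f).obj N ⟶ F) [Epi φ] :
    Epi ((pullbackPushforwardAdjunction f).counit.app F) := by
  have h : (Scheme.Modules.pullback f).map (((pullbackPushforwardAdjunction f).homEquiv _ _) φ) ≫
      (pullbackPushforwardAdjunction f).counit.app F = φ :=
    ((pullbackPushforwardAdjunction f).homEquiv_counit _ _ _).symm.trans (Equiv.symm_apply_apply _ _)
  have h1 : Epi ((Scheme.Modules.pullback f).map (((pullbackPushforwardAdjunction f).homEquiv _ _) φ) ≫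
      (pullbackPushforwardAdjunction f).counit.app F) := by
    rw [h]
    infer_instance
  exact epi_of_epi ((Scheme.Modules.pullback f).map (((pullbackPushforwardAdjunction f).homEquiv _ _) φ)) _

end Schemes

end Groth.Agent.BunMod.K596.Mate
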