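import Groth.Agent.BunMod.K596.Iface

/-!
PLAN FILE (sorried statements, never imported).  Part F of the BunMod project: nodes on the abelian variety `J`.
Definitions `PPAV`, `Sym`, `VerD`, `Str`, `IT0`, `Criterion`, `MulSurj` are in `K596.Iface`.
-/

set_option autoImplicit false
universe u
open CategoryTheory CategoryTheory.Limits AlgebraicGeometry MonoidalCategory CartesianMonoidalCategory MonObj

namespace Groth.Agent.BunMod.K596.Plan

noncomputable section

variable {k : Type u} [Field k] [IsAlgClosed k] [CharZero k]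
variable {J : Over (Spec (CommRingCat.of k))} [GrpObj J] {L : J.left.Modules} {g : ℕ}

/-! ### F1 (helper596): from (STR) to `VerD`, and what the rows on `M` need -/

section F1

variable {M : Over (Spec (CommRingCat.of k))} {dm : M ⟶ J} {Θ : M.left.Modules} {r : ℕ}

/-- F1a. -/
theorem verD_of_str (hJ : PPAV g J L) (hr : 1 ≤ r) (S : Str r dm Θ L) (m : ℕ) :
    VerD J L r m (@Module.finrank k (Coh.HH S.M₀.left (CohB1.tensorPow S.A m) 0) _ _
      (@Coh.moduleOver k _ S.M₀.left ⟨S.M₀.hom⟩ (CohB1.tensorPow S.A m) 0))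
      ((Scheme.Modules.pushforward dm.left).obj (CohB1.tensorPow Θ m)) := by
  sorry

/-- F1b. `dm_* O_M = O_J`. -/
theorem push_structure (hJ : PPAV g J L) (hr : 1 ≤ r) (S : Str r dm Θ L) :
    Nonempty ((Scheme.Modules.pushforward dm.left).obj (Coh.structureModule M.left) ≅ Coh.structureModule J.left) := by
  sorry

/-- F1c. projection formula: `dm_* (F ⊗ dm^* P) = dm_* F ⊗ P` for `P` invertible. -/
theorem push_tensor (F : M.left.Modules) (P : J.left.Modules) (hP : PicF.IsInvertible P) :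
    Nonempty ((Scheme.Modules.pushforward dm.left).obj
        (CohB1.tensorMod F ((Scheme.Modules.pullback dm.left).obj P)) ≅
      CohB1.tensorMod ((Scheme.Modules.pushforward dm.left).obj F) P) := by
  sorry

/-- F1d. If `A^m` is globally generated on `M₀` then `dm^* dm_* Θ^m → Θ^m` is onto; with `E ⊗ P` globally generated
on `J`, `Θ^m ⊗ dm^* P` is globally generated on `M`. -/
theorem gg_of_gg (hJ : PPAV g J L) (hr : 1 ≤ r) (S : Str r dm Θ L) (m : ℕ)
    (hA : Curv2.IsGloballyGenerated (CohB1.tensorPow S.A m)) (P : J.left.Modules) (hP : PicF.IsInvertible P)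
    (h : Curv2.IsGloballyGenerated
      (CohB1.tensorMod ((Scheme.Modules.pushforward dm.left).obj (CohB1.tensorPow Θ m)) P)) :
    Curv2.IsGloballyGenerated (CohB1.tensorMod (CohB1.tensorPow Θ m) ((Scheme.Modules.pullback dm.left).obj P)) := by
  sorry

end F1

/-! ### F2 (helper231): trace splitting and vanishing -/

section F2

/-- F2a. `[r]` is finite étale surjective; any quasi-coherent (here: finite locally free) `F` is a retract of
`[r]_* [r]^* F`. -/
theorem exists_retract (hJ : PPAV g J L) {r : ℕ} (hr : 1 ≤ r) (F : J.left.Modules) (hF : FlatMod.IsFinLocFree F) :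
    ∃ (i : F ⟶ (Scheme.Modules.pushforward ((𝟙 J) ^ r : J ⟶ J).left).obj
        ((Scheme.Modules.pullback ((𝟙 J) ^ r : J ⟶ J).left).obj F))
      (p : (Scheme.Modules.pushforward ((𝟙 J) ^ r : J ⟶ J).left).obj
        ((Scheme.Modules.pullback ((𝟙 J) ^ r : J ⟶ J).left).obj F) ⟶ F), i ≫ p = 𝟙 F := by
  sorry

/-- F2b. vanishing descends along `[r]`. -/
theorem subsingleton_of_pullback (hJ : PPAV g J L) {r : ℕ} (hr : 1 ≤ r) (F : J.left.Modules)
    (hF : FlatMod.IsFinLocFree F) (i : ℕ)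
    (h : Subsingleton (Coh.HH J.left ((Scheme.Modules.pullback ((𝟙 J) ^ r : J ⟶ J).left).obj F) i)) :
    Subsingleton (Coh.HH J.left F i) := by
  sorry

/-- F2c. the pull back of a class algebraically equivalent to zero is one. -/
theorem algEquivZero_pullback (hJ : PPAV g J L) (r : ℕ) (α : J.left.Modules) (hα : PicF.IsInvertible α)
    (h0 : @Pic13.IsAlgEquivZero k _ J.left ⟨J.hom⟩ α) :
    @Pic13.IsAlgEquivZero k _ J.left ⟨J.hom⟩ ((Scheme.Modules.pullback ((𝟙 J) ^ r : J ⟶ J).left).obj α) := by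
  sorry

/-- F2d. `H^i(J, B ⊗ α) = 0` for `B` ample, `i > 0`. -/
theorem it0_of_ample (hJ : PPAV g J L) (B : J.left.Modules) (hB : CohB1.IsAmple B) : IT0 J B := by
  sorry

/-- F2e. `[r]^* P = P^(r²) ⊗ P₀` with `P₀` algebraically equivalent to zero. -/
theorem pullback_eq (hJ : PPAV g J L) (r : ℕ) (P : J.left.Modules) (hP : PicF.IsInvertible P) :
    ∃ P₀ : J.left.Modules, PicF.IsInvertible P₀ ∧ @Pic13.IsAlgEquivZero k _ J.left ⟨J.hom⟩ P₀ ∧
      Nonempty ((Scheme.Modules.pullback ((𝟙 J) ^ r : J ⟶ J).left).obj P ≅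
        CohB1.tensorMod (CohB1.tensorPow P (r ^ 2)) P₀) := by
  sorry

/-- F2e'. for a symmetric `P` there is no correction. -/
theorem pullback_eq_of_sym (hJ : PPAV g J L) (r : ℕ) (P : J.left.Modules) (hP : PicF.IsInvertible P) (hs : Sym J P) :
    Nonempty ((Scheme.Modules.pullback ((𝟙 J) ^ r : J ⟶ J).left).obj P ≅ CohB1.tensorPow P (r ^ 2)) := by
  sorry

/-- F2f. `S16658`, `S16924` on `J`. -/
theorem it0_of_verD (hJ : PPAV g J L) {r m v : ℕ} (hr : 1 ≤ r) (hm : 1 ≤ m) {E : J.left.Modules}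
    (hE : VerD J L r m v E) : IT0 J E := by
  sorry

/-- F2g. `S16931` on `J`. -/
theorem itg_dual_of_verD (hJ : PPAV g J L) {r m v : ℕ} (hr : 1 ≤ r) (hm : 1 ≤ m) {E : J.left.Modules}
    (hE : VerD J L r m v E) (α : J.left.Modules) (hα : PicF.IsInvertible α)
    (hα0 : @Pic13.IsAlgEquivZero k _ J.left ⟨J.hom⟩ α) (i : ℕ) (hi : i < g) :
    Subsingleton (Coh.HH J.left (CohB1.tensorMod (RefHull.dual E) α) i) := by
  sorry

/-- F2h. `S16657` on `J`. -/
theorem sum_of_verD (hJ : PPAV g J L) (hs : Sym J L) {r m v : ℕ} (hr : 1 ≤ r) (hm : 1 ≤ m) {E : J.left.Modules}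
    (hE : VerD J L r (m * r) v E) :
    ∃ (s : ℕ) (P : Fin s → J.left.Modules),
      (∀ i, PicF.IsInvertible (P i) ∧ Nonempty (CohB1.tensorPow (P i) r ≅ Coh.structureModule J.left)) ∧
      Nonempty (E ≅ ∐ fun i : Fin s => CohB1.tensorMod (CohB1.tensorPow L m) (P i)) := by
  sorry

/-- F2i. `S16923` on `J`. -/
theorem tensor_iso_of_verD (hJ : PPAV g J L) {r v : ℕ} (hr : 1 ≤ r) {E : J.left.Modules}
    (hE : VerD J L r 1 v E) (P : J.left.Modules) (hP : PicF.IsInvertible P)
    (hPr : Nonempty (CohB1.tensorPow P r ≅ Coh.structureModule J.left)) :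
    Nonempty (CohB1.tensorMod E P ≅ E) := by
  sorry

end F2

/-! ### F3 (helper596) -/

section F3

/-- Euler characteristics under `[r]` (all that is needed): `h^0(J, E) r^(2g) = h^0(J, [r]^* E)` when both have no higher
cohomology; for `VerD` this gives `h^0(J, E) r^g = v m^g`. -/
theorem h0_of_verD (hJ : PPAV g J L) {r m v : ℕ} (hr : 1 ≤ r) (hm : 1 ≤ m) {E : J.left.Modules}
    (hE : VerD J L r m v E) :
    @Module.finrank k (Coh.HH J.left E 0) _ _ (@Coh.moduleOver k _ J.left ⟨J.hom⟩ E 0) * r ^ g = v * m ^ g := by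
  sorry

/-- `E ⊗ L⁻¹` has index `0` when `m > r`. -/
theorem it0_tensor_inv (hJ : PPAV g J L) {r m v : ℕ} (hr : 1 ≤ r) (hm : r + 1 ≤ m) {E : J.left.Modules}
    (hE : VerD J L r m v E) (L' : J.left.Modules) (hL' : Nonempty (CohB1.tensorMod L L' ≅ Coh.structureModule J.left)) :
    IT0 J (CohB1.tensorMod E L') := by
  sorry

/-- `S16929` on `J`. -/
theorem gg_of_verD (hJ : PPAV g J L) (hcrit : Criterion J) {r m v : ℕ} (hr : 1 ≤ r) (hm : r + 1 ≤ m)
    {E : J.left.Modules} (hE : VerD J L r m v E) : Curv2.IsGloballyGenerated E := by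
  sorry

/-- `S19872` on `J`. -/
theorem not_gg_of_verD (hJ : PPAV g J L) (hg : 1 ≤ g) (hs : Sym J L) {r v : ℕ} (hr : 1 ≤ r)
    {E : J.left.Modules} (hE : VerD J L r r v E) : ¬ Curv2.IsGloballyGenerated E := by
  sorry

end F3

/-! ### F4: slope polystability (S16656) -/

theorem polystable_of_verD (hJ : PPAV g J L) {r m v : ℕ} (hr : 1 ≤ r) (hm : 1 ≤ m)
    {E : J.left.Modules} (hE : VerD J L r m v E) (H : J.left.Modules) (hH : CohB1.IsAmple H) :
    @ShStab.IsMuSemistable k _ J.left ⟨J.hom⟩ H E g ∧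
      ∃ (n : ℕ) (G : Fin n → J.left.Modules), (∀ i, @ShStab.IsMuStable k _ J.left ⟨J.hom⟩ H (G i) g) ∧
        Nonempty (E ≅ ∐ G) := by
  sorry

/-! ### F5: Fourier-Mukai transform of the dual (S16927, S16928, S16934) -/

section F5

/-- The transform `R^g p_{2*} (p_1^* E^∨ ⊗ P)`. -/
def FM [HasInjectiveResolutions (pullback J.hom J.hom).Modules] (g : ℕ) (P : (pullback J.hom J.hom).Modules)
    (E : J.left.Modules) : J.left.Modules :=
  (Coh.Rpush (pullback.snd J.hom J.hom) g).obj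
    (CohB1.tensorMod ((Scheme.Modules.pullback (pullback.fst J.hom J.hom)).obj (RefHull.dual E)) P)

/-- F5a. `E = E_{m,r}` (so `VerD J L m r v E`): the transform `F` of the dual is finite locally free of rank `h^0(J, E)`,
and `[r m]^* F ≅ (L^(m^3 r))^(+n)`. -/
theorem fm_of_verD (hJ : PPAV g J L) (hs : Sym J L) [IsCommMonObj J]
    (φJ : AgPol.DualMap J J) (hsd : Jac.IsSelfDual Scheme.fppfPrecoverage J φJ L)
    (P : (pullback J.hom J.hom).Modules) (hP : PicF.IsInvertible P) (hPP : AbDual.IsPoincareCl J J φJ (PicF.cl P))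
    [HasInjectiveResolutions (pullback J.hom J.hom).Modules]
    {r m v : ℕ} (hr : 1 ≤ r) (hm : 1 ≤ m) {E : J.left.Modules} (hE : VerD J L m r v E) :
    ∃ n : ℕ, n = @Module.finrank k (Coh.HH J.left E 0) _ _ (@Coh.moduleOver k _ J.left ⟨J.hom⟩ E 0) ∧
      FlatMod.IsFinLocFreeOfRank n (FM g P E) ∧
      Nonempty ((Scheme.Modules.pullback ((𝟙 J) ^ (r * m) : J ⟶ J).left).obj (FM g P E) ≅
        ∐ fun _ : Fin n => CohB1.tensorPow L (m ^ 3 * r)) := by
  sorry

end F5

/-! ### F6: multiplication maps on `J` (S16933; used in S16937) -/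

theorem mulSurj_of_verD (hJ : PPAV g J L) (hs : Sym J L) (hcrit : Criterion J) {r m v : ℕ} (hr : 1 ≤ r)
    (hm : 2 * r + 1 ≤ m) {E : J.left.Modules} (hE : VerD J L r m v E) : MulSurj E E := by
  sorry

end

end Groth.Agent.BunMod.K596.Plan
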