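import Mathlib.AlgebraicGeometry.Morphisms.Flat
import Mathlib.AlgebraicGeometry.Morphisms.FlatDescent
import Mathlib.RingTheory.Flat.FaithfullyFlat.Descent

/-!
# `f_* O = O` descends along faithfully flat affine base change
-/

set_option autoImplicit false
universe u
open CategoryTheory CategoryTheory.Limits AlgebraicGeometry

namespace Groth.Agent.BunMod.K596.PushO

variable {X' X S' S : Scheme.{u}} {q : X' ⟶ X} {f' : X' ⟶ S'} {f : X ⟶ S} {n : S' ⟶ S}

theorem faithfullyFlat_app [Flat n] [Surjective n] [IsAffineHom n] (U : S.Opens) (hU : IsAffineOpen U) :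
    (n.app U).hom.FaithfullyFlat := by
  have : IsAffine U := hU
  have : IsAffine (n ⁻¹ᵁ U) := hU.preimage n
  have : Surjective (n ∣_ U) := MorphismProperty.of_isPullback (P := @Surjective) (isPullback_morphismRestrict n U).flip inferInstance
  have h1 : (n ∣_ U).appTop.hom.FaithfullyFlat :=
    (Flat.flat_and_surjective_iff_faithfullyFlat_of_isAffine (n ∣_ U)).1 ⟨inferInstance, inferInstance⟩
  rw [morphismRestrict_appTop] at h1
  have h2 : (n.app (U.ι ''ᵁ ⊤)).hom.FaithfullyFlat :=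
    (RingHom.FaithfullyFlat.respectsIso.cancel_right_isIso _ _).1 h1
  have h3 : ∀ V : S.Opens, V = U → (n.app V).hom.FaithfullyFlat → (n.app U).hom.FaithfullyFlat := by
    rintro V rfl h
    exact h
  exact h3 _ U.ι_image_top h2

theorem bijective_of_isPushout {A B A' B' : CommRingCat.{u}} {φ : A ⟶ B} {ψ : A ⟶ A'} {ψ' : B ⟶ B'} {φ' : A' ⟶ B'}
    (h : IsPushout φ ψ ψ' φ') (hψ : ψ.hom.FaithfullyFlat) (hφ' : Function.Bijective φ') : Function.Bijective φ := by
  algebraize [φ.hom, ψ.hom, ψ'.hom, φ'.hom, ψ'.hom.comp φ.hom]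
  have : IsScalarTower A A' B' := .of_algebraMap_eq fun x ↦ congr($(h.w).hom x)
  have : Algebra.IsPushout A B A' B' := CommRingCat.isPushout_iff_isPushout.mp h
  exact RingHom.FaithfullyFlat.codescendsAlong_bijective (R := A) (S := B) (R' := A') (S' := B') hψ hφ'

/-- If the base change `f'` of `f` along a faithfully flat affine morphism satisfies `f'_* O = O` over `n⁻¹ U`, then
`O(U) → O(f⁻¹ U)` is bijective. -/
theorem bijective_app (h : IsPullback q f' f n) [QuasiCompact f] [QuasiSeparated f] [Flat n] [Surjective n]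
    [IsAffineHom n] (U : S.Opens) (hU : IsAffineOpen U) (hf' : IsIso (f'.app (n ⁻¹ᵁ U))) :
    Function.Bijective (f.app U) := by
  have hW : IsAffineOpen (n ⁻¹ᵁ U) := hU.preimage n
  have hUY : f' ⁻¹ᵁ (n ⁻¹ᵁ U) = q ⁻¹ᵁ (f ⁻¹ᵁ U) ⊓ f' ⁻¹ᵁ (n ⁻¹ᵁ U) := by
    rw [← Scheme.Hom.comp_preimage, ← Scheme.Hom.comp_preimage, h.w, inf_idem]
  have h1 : IsIso (pushoutSection h (US := U) (UT := n ⁻¹ᵁ U) (UX := f ⁻¹ᵁ U) (UY := f' ⁻¹ᵁ (n ⁻¹ᵁ U))
      le_rfl le_rfl hUY) := isIso_pushoutSection_of_isQuasiSeparated_of_flat_right h _ _ hUY hU hW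
        (f.isCompact_preimage hU.isCompact) (f.isQuasiSeparated_preimage hU.isQuasiSeparated)
  have h2 := (isIso_pushoutSection_iff h (US := U) (UT := n ⁻¹ᵁ U) (UX := f ⁻¹ᵁ U) (UY := f' ⁻¹ᵁ (n ⁻¹ᵁ U))
      le_rfl le_rfl hUY).1 h1
  have h3 : (n.appLE U (n ⁻¹ᵁ U) le_rfl).hom.FaithfullyFlat := by
    rw [Scheme.Hom.appLE_eq_app]
    exact faithfullyFlat_app U hU
  have h5 : Function.Bijective (f'.appLE (n ⁻¹ᵁ U) (f' ⁻¹ᵁ (n ⁻¹ᵁ U)) le_rfl) := by
    rw [Scheme.Hom.appLE_eq_app]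
    exact ConcreteCategory.bijective_of_isIso (f'.app (n ⁻¹ᵁ U))
  have h4 : Function.Bijective (f.appLE U (f ⁻¹ᵁ U) le_rfl) := bijective_of_isPushout h2 h3 h5
  rwa [Scheme.Hom.appLE_eq_app] at h4

end Groth.Agent.BunMod.K596.PushO
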