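import Groth.Agent.BunMod.K596.CounitGG
import Groth.Agent.BunMod.K596.StrVer
import Groth.Agent.BunMod.K596.F1
import Groth.Agent.S2329

/-!
# Small facts used in the row files of part F
-/

set_option autoImplicit false
universe u
open CategoryTheory CategoryTheory.Limits AlgebraicGeometry MonoidalCategory

namespace Groth.Agent.BunMod.K596.RowUtil

open Groth.Agent Groth.Agent.ASBun.K791.Tens

theorem isInvertible_structureModule (X : Scheme.{u}) : PicF.IsInvertible (Coh.structureModule X) :=
  (Fdesc.LocGen.isInvertible_iff _).2 fun _ =>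
    ⟨⊤, Fdesc.LocGen.one ⊤, trivial, Fdesc.LocGen.isGen_one ⊤⟩

theorem deg_structureModule (k : Type u) [Field k] (X : Scheme.{u}) [X.Over (Spec (CommRingCat.of k))] :
    Curv2.deg k X (Coh.structureModule X) 1 = 0 := by
  simp [Curv2.deg]

/-- Global generation is preserved by pull back. -/
theorem gg_pullback {X Y : Scheme.{u}} (f : X ⟶ Y) {F : Y.Modules} (h : Curv2.IsGloballyGenerated F) :
    Curv2.IsGloballyGenerated ((Scheme.Modules.pullback f).obj F) := by
  obtain ⟨i, p, hp⟩ := h
  let p' : (∐ fun _ : i => Coh.structureModule Y) ⟶ F := p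
  have hp' : Epi p' := hp
  have h1 : Epi ((Scheme.Modules.pullback f).map p') := (Scheme.Modules.pullback f).map_epi p'
  have h2 : PreservesColimitsOfSize.{u, u} (Scheme.Modules.pullback f) :=
    (Scheme.Modules.pullbackPushforwardAdjunction f).leftAdjoint_preservesColimits
  let e : (Scheme.Modules.pullback f).obj (∐ fun _ : i => Coh.structureModule Y) ≅
      ∐ fun _ : i => Coh.structureModule X :=
    PreservesCoproduct.iso (Scheme.Modules.pullback f) (fun _ : i => Coh.structureModule Y) ≪≫
      Sigma.mapIso fun _ => pullUnit f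
  let p'' : (Scheme.Modules.pullback f).obj (∐ fun _ : i => Coh.structureModule Y) ⟶
      (Scheme.Modules.pullback f).obj F := (Scheme.Modules.pullback f).map p'
  have h3 : Epi p'' := h1
  exact ⟨i, e.inv ≫ p'', epi_comp e.inv p''⟩

theorem gg_pow_of_iso {k : Type u} [Field k] {A B : Over (Spec (CommRingCat.of k))} (e : A ≅ B) {F : A.left.Modules}
    {G : B.left.Modules} (i : F ≅ (Scheme.Modules.pullback e.hom.left).obj G) {m : ℕ}
    (h : Curv2.IsGloballyGenerated (CohB1.tensorPow G m)) : Curv2.IsGloballyGenerated (CohB1.tensorPow F m) := by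
  obtain ⟨j, p, hp⟩ := gg_pullback e.hom.left h
  exact ⟨j, p ≫ ((Comp.pullTPow e.hom.left G m) ≪≫ (Ega2.TensPow.powIso i m).symm).hom, epi_comp _ _⟩

/-- `h^0(M₀, A^m) = h^0(M', Θ'^m)` when `A` is the pull back of `Θ'` along an isomorphism over `k`. -/
theorem finrank_pow_of_iso {k : Type u} [Field k] {A B : Over (Spec (CommRingCat.of k))} (e : A ≅ B)
    {F : A.left.Modules} {G : B.left.Modules} (hG : PicF.IsInvertible G)
    (i : F ≅ (Scheme.Modules.pullback e.hom.left).obj G) (m : ℕ) :
    @Module.finrank k (Coh.HH A.left (CohB1.tensorPow F m) 0) _ _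
      (@Coh.moduleOver k _ A.left ⟨A.hom⟩ (CohB1.tensorPow F m) 0) =
    @Module.finrank k (Coh.HH B.left (CohB1.tensorPow G m) 0) _ _
      (@Coh.moduleOver k _ B.left ⟨B.hom⟩ (CohB1.tensorPow G m) 0) := by
  let _ : A.left.Over (Spec (CommRingCat.of k)) := ⟨A.hom⟩
  let _ : B.left.Over (Spec (CommRingCat.of k)) := ⟨B.hom⟩
  have he : IsIso e.hom.left := inferInstanceAs (IsIso ((Over.forget _).map e.hom))
  have hu : IsIso ((Scheme.Modules.pullbackPushforwardAdjunction e.hom.left).unit.app (CohB1.tensorPow G m)) :=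
    Sga67.PushTwist.isIso_unit e.hom.left (fun W _ => ConcreteCategory.bijective_of_isIso (e.hom.left.app W))
      (StrVer.hasBases (Fdesc.LocGen.isInvertible_tensorPow hG m))
  have h1 := F1.finrank_push e.hom ((Scheme.Modules.pullback e.hom.left).obj (CohB1.tensorPow G m))
  have h2 := K436.H0Tensor.finrank_congr k
    (asIso ((Scheme.Modules.pullbackPushforwardAdjunction e.hom.left).unit.app (CohB1.tensorPow G m))) 0
  have h3 := K436.H0Tensor.finrank_congr k
    ((Ega2.TensPow.powIso i m) ≪≫ (Comp.pullTPow e.hom.left G m).symm) 0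
  exact h3.trans (h1.symm.trans h2.symm)

end Groth.Agent.BunMod.K596.RowUtil
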