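import Groth.Agent.BunMod.K596.StrVer
import Groth.Agent.BunMod.K596.CounitGG
import Groth.Agent.BunMod.K596.PushO
import Groth.Agent.S0981

/-!
# Consequences of the structure theorem on `M` (nodes F1b, F1c, F1d), with the facts on `[r]` as hypotheses
-/

set_option autoImplicit false
universe u
open CategoryTheory CategoryTheory.Limits AlgebraicGeometry MonoidalCategory CartesianMonoidalCategory MonObj

namespace Groth.Agent.BunMod.K596.StrGG

open Groth.Agent Groth.Agent.ASBun.K791.Tens Groth.Agent.VarietyB.TensCoh Groth.Agent.BunMod.K596.Comp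
open Groth.Agent.BunMod.K596.StrVer
open Scheme.Modules (pullbackPushforwardAdjunction)

/-- The projection formula. -/
theorem nonempty_push_tensor {X Y : Scheme.{u}} (f : X ⟶ Y) (F : X.Modules) {P : Y.Modules} (hP : PicF.IsInvertible P) :
    Nonempty ((Scheme.Modules.pushforward f).obj (CohB1.tensorMod F ((Scheme.Modules.pullback f).obj P)) ≅
      CohB1.tensorMod ((Scheme.Modules.pushforward f).obj F) P) :=
  ⟨(Scheme.Modules.pushforward f).mapIso (tensComm _ _) ≪≫
    (VarietyB.ProjForm.projIso f (hasBases hP) F).symm ≪≫ tensComm _ _⟩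

theorem gg_of_iso {X : Scheme.{u}} {F G : X.Modules} (e : F ≅ G) (h : Curv2.IsGloballyGenerated F) :
    Curv2.IsGloballyGenerated G := by
  obtain ⟨i, p, hp⟩ := h
  exact ⟨i, p ≫ e.hom, epi_comp _ _⟩

/-- `f_* O = O` for proper flat morphisms with geometrically integral fibres. -/
theorem isIso_app_of_gint {X S : Scheme.{u}} (f : X ⟶ S) [IsProper f] [Flat f]
    [LocallyOfFinitePresentation f] [GeometricallyIntegral f] (V : S.Opens) : IsIso (f.app V) := by
  refine S0981.result f (fun K _ _ g => ?_) V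
  have h : IsIntegral (pullback f g) :=
    GeometricallyIntegral.geometrically_isIntegral _ _ _ (.of_hasPullback _ _)
  exact ⟨inferInstance, inferInstance⟩

/-- Composite pull backs along a commutative square. -/
noncomputable def pullSquare {P X Y S : Scheme.{u}} {a : P ⟶ X} {b : P ⟶ Y} {f : X ⟶ S} {g : Y ⟶ S}
    (w : a ≫ f = b ≫ g) (N : S.Modules) :
    (Scheme.Modules.pullback a).obj ((Scheme.Modules.pullback f).obj N) ≅
      (Scheme.Modules.pullback b).obj ((Scheme.Modules.pullback g).obj N) :=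
  (Scheme.Modules.pullbackComp a f).app N ≪≫ (Scheme.Modules.pullbackCongr w).app N ≪≫
    ((Scheme.Modules.pullbackComp b g).app N).symm

section Main

variable {k : Type u} [Field k] {g : ℕ} {J : Over (Spec (CommRingCat.of k))} [GrpObj J] {L : J.left.Modules}
  {M : Over (Spec (CommRingCat.of k))} {dm : M ⟶ J} {Θ : M.left.Modules} {r : ℕ}

/-- `q^* (Θ^m ⊗ dm^* P) ≅ fst^* A^m ⊗ snd^* (L^(r m) ⊗ [r]^* P)`. -/
theorem nonempty_pull_twist (S : Str r dm Θ L) (m : ℕ) (P : J.left.Modules) :
    Nonempty ((Scheme.Modules.pullback S.q.left).obj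
        (CohB1.tensorMod (CohB1.tensorPow Θ m) ((Scheme.Modules.pullback dm.left).obj P)) ≅
      CohB1.tensorMod ((Scheme.Modules.pullback (fst S.M₀ J).left).obj (CohB1.tensorPow S.A m))
        ((Scheme.Modules.pullback (snd S.M₀ J).left).obj (CohB1.tensorMod (CohB1.tensorPow L (r * m))
          ((Scheme.Modules.pullback ((𝟙 J) ^ r : J ⟶ J).left).obj P)))) := by
  obtain ⟨e⟩ := nonempty_pow_box (fst S.M₀ J).left (snd S.M₀ J).left S.iso m
  exact ⟨pullTens _ _ _ ≪≫ tensMap (pullTPow _ _ _ ≪≫ e) (pullSquare (sq_left S).w P) ≪≫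
    tensAssoc _ _ _ ≪≫ tensMap (Iso.refl _) (pullTens _ _ _).symm⟩

/-- F1d, with the facts on `[r]` as hypotheses. -/
theorem gg_of_gg' (hJ : PPAV g J L) (hΘ : PicF.IsInvertible Θ) (S : Str r dm Θ L)
    [Flat ((𝟙 J) ^ r : J ⟶ J).left] [Surjective ((𝟙 J) ^ r : J ⟶ J).left] [QuasiCompact ((𝟙 J) ^ r : J ⟶ J).left]
    (m : ℕ) (hA : Curv2.IsGloballyGenerated (CohB1.tensorPow S.A m)) (P : J.left.Modules) (hP : PicF.IsInvertible P)
    (h : Curv2.IsGloballyGenerated
      (CohB1.tensorMod ((Scheme.Modules.pushforward dm.left).obj (CohB1.tensorPow Θ m)) P)) :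
    Curv2.IsGloballyGenerated (CohB1.tensorMod (CohB1.tensorPow Θ m) ((Scheme.Modules.pullback dm.left).obj P)) := by
  have hdm : IsProper dm.left := isProper_dm S ⟨⟨inferInstance, inferInstance⟩, inferInstance⟩
  have hJp := hJ.proper
  have hM₀ := S.proper
  have hN : IsLocallyNoetherian J.left := LocallyOfFiniteType.isLocallyNoetherian J.hom
  have hNM : IsLocallyNoetherian S.M₀.left := LocallyOfFiniteType.isLocallyNoetherian S.M₀.hom
  have hcJ : CompactSpace J.left := QuasiCompact.compactSpace_of_compactSpace J.hom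
  have hcM : CompactSpace S.M₀.left := QuasiCompact.compactSpace_of_compactSpace S.M₀.hom
  have hF : PicF.IsInvertible
      (CohB1.tensorMod (CohB1.tensorPow Θ m) ((Scheme.Modules.pullback dm.left).obj P)) :=
    Fdesc.LocGen.isInvertible_tensorMod (Fdesc.LocGen.isInvertible_tensorPow hΘ m)
      (Fdesc.LocGen.isInvertible_pullback _ hP)
  obtain ⟨t, π, hπ⟩ := Sga67.SerreVB.exists_epi_freeMod
    (Fga.HodgeSec.isCoh_of_isInvertible (Fdesc.LocGen.isInvertible_tensorPow S.inv m)) hA
  have h1 := CounitGG.epi_counit (sq_left S) (Ega2.QCohLocal.isQCoh_of_isInvertible hF) π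
    (nonempty_pull_twist S m P)
  obtain ⟨e⟩ := nonempty_push_tensor dm.left (CohB1.tensorPow Θ m) hP
  obtain ⟨t', π', hπ'⟩ := Sga67.SerreVB.exists_epi_freeMod
    (FieldFree.isCoh_push dm.left _ (Fga.HodgeSec.isCoh_of_isInvertible hF))
    (gg_of_iso e.symm h)
  exact CounitGG.gg_of_epi_counit h1 π'

/-- F1b on affine opens, with the facts on `[r]` as hypotheses: `O_J(U) → O_M(dm⁻¹ U)` is bijective. -/
theorem bijective_app' (S : Str r dm Θ L)
    [Flat ((𝟙 J) ^ r : J ⟶ J).left] [Surjective ((𝟙 J) ^ r : J ⟶ J).left] [IsAffineHom ((𝟙 J) ^ r : J ⟶ J).left]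
    (U : J.left.Opens) (hU : IsAffineOpen U) : Function.Bijective (dm.left.app U) := by
  have hdm : IsProper dm.left := isProper_dm S ⟨⟨inferInstance, inferInstance⟩, inferInstance⟩
  have hM₀ := S.proper
  have hgi := S.gint
  have h1 : IsProper (snd S.M₀ J).left := isProper_snd S
  have h2 : Flat (snd S.M₀ J).left := MorphismProperty.of_isPullback (P := @Flat) (prod_left S) inferInstance
  have h3 : LocallyOfFinitePresentation (snd S.M₀ J).left :=
    MorphismProperty.of_isPullback (P := @LocallyOfFinitePresentation) (prod_left S) inferInstance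
  have h4 : GeometricallyIntegral (snd S.M₀ J).left :=
    MorphismProperty.of_isPullback (P := @GeometricallyIntegral) (prod_left S) hgi
  exact PushO.bijective_app (sq_left S) U hU (isIso_app_of_gint _ _)

end Main

end Groth.Agent.BunMod.K596.StrGG
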